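import Groth.Agent.FormalB.QcSect
import Groth.Agent.FormalB.SysSect
import Groth.Prelude.Def_RelSpec2

/-!
# Direct image `AMod.dirImg` along an affine morphism: exactness, faithfulness of `toOS`
-/

set_option autoImplicit false
universe u
open CategoryTheory CategoryTheory.Limits AlgebraicGeometry Opposite TopologicalSpace

namespace K38.DirImg

open AlgebraicGeometry.Scheme.Modules

noncomputable section

variable {X S : Scheme.{u}}

instance faithful_toOS (B : RelSpec.QCAlg S) : (AMod.toOS B).Faithful where
  map_injective {M N} a b h := by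
    apply SheafOfModules.hom_ext
    apply PresheafOfModules.hom_ext
    intro U
    ext x
    have h1 := congrArg (fun t => (t.val.app U).hom x) h
    exact h1

theorem epi_pushforward (f : X ⟶ S) [IsAffineHom f] {F G : X.Modules} (hF : Coh.IsQCoh F) (hG : Coh.IsQCoh G)
    (v : F ⟶ G) [Epi v] : Epi ((pushforward f).map v) :=
  Groth.Agent.FormalB.SysSect.epi_of_affine _ fun _ hU =>
    Groth.Agent.FormalB.QcSect.surjective_app_of_epi v (hU.preimage f)

theorem epi_dirImg (f : X ⟶ S) [IsAffineHom f] {F G : X.Modules} (hF : Coh.IsQCoh F) (hG : Coh.IsQCoh G)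
    (v : F ⟶ G) [Epi v] : Epi ((AMod.dirImg f).map v) := by
  have h : Epi ((AMod.toOS (RelSpec.QCAlg.directImage f)).map ((AMod.dirImg f).map v)) :=
    epi_pushforward f hF hG v
  exact (AMod.toOS (RelSpec.QCAlg.directImage f)).epi_of_epi_map h

end

end K38.DirImg
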