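import Groth.Agent.Fdesc.LocGenTensor

/-!
# Dual pairs of generators of an invertible module and its inverse
-/

set_option autoImplicit false
universe u
open CategoryTheory AlgebraicGeometry TopologicalSpace Opposite

noncomputable section

namespace K38.LinePair

open Groth.Agent.Fdesc.LocGen

variable {Y : Scheme.{u}}

/-- `rel e e'` = "`e` is a generator of `L` and `e'` is the dual generator of `L'`". -/
structure Pairing (L L' : Y.Modules) : Type u where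
  /-- dual generators -/
  rel : ∀ V : Y.Opens, Γ(L, V) → Γ(L', V) → Prop
  gen : ∀ {V : Y.Opens} {e : Γ(L, V)} {e' : Γ(L', V)}, rel V e e' → IsGen e
  gen' : ∀ {V : Y.Opens} {e : Γ(L, V)} {e' : Γ(L', V)}, rel V e e' → IsGen e'
  rel_res : ∀ {V W : Y.Opens} (h : W ≤ V) {e : Γ(L, V)} {e' : Γ(L', V)}, rel V e e' →
    rel W (res L h e) (res L' h e')
  exists_rel : ∀ y : Y, ∃ V : Y.Opens, y ∈ V ∧ ∃ e e', rel V e e'
  unit : ∀ {V : Y.Opens} {e e₁ : Γ(L, V)} {e' e₁' : Γ(L', V)}, rel V e e' → rel V e₁ e₁' →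
    ∃ u v : Γ(Y, V), u * v = 1 ∧ e₁ = u • e ∧ e₁' = v • e'

namespace Pairing

variable {L L' : Y.Modules}

/-- the reverse pairing -/
def symm (𝔓 : Pairing L L') : Pairing L' L where
  rel V e' e := 𝔓.rel V e e'
  gen h := 𝔓.gen' h
  gen' h := 𝔓.gen h
  rel_res h _ _ h' := 𝔓.rel_res h h'
  exists_rel y := by
    obtain ⟨V, hy, e, e', h⟩ := 𝔓.exists_rel y
    exact ⟨V, hy, e', e, h⟩
  unit h h₁ := by
    obtain ⟨u, v, huv, h1, h2⟩ := 𝔓.unit h h₁
    exact ⟨v, u, by rw [mul_comm, huv], h2, h1⟩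

/-- A local trivialization over an affine open. -/
structure Triv (𝔓 : Pairing L L') : Type u where
  V : Y.Opens
  hV : IsAffineOpen V
  e : Γ(L, V)
  e' : Γ(L', V)
  rel : 𝔓.rel V e e'

/-- restriction of a trivialization -/
def Triv.restrict {𝔓 : Pairing L L'} (t : 𝔓.Triv) {W : Y.Opens} (hW : IsAffineOpen W) (h : W ≤ t.V) : 𝔓.Triv :=
  ⟨W, hW, res L h t.e, res L' h t.e', 𝔓.rel_res h t.rel⟩

theorem exists_triv (𝔓 : Pairing L L') (y : Y) : ∃ t : 𝔓.Triv, y ∈ t.V := by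
  obtain ⟨V, hy, e, e', h⟩ := 𝔓.exists_rel y
  obtain ⟨W, hW, hyW, hWV⟩ := exists_isAffineOpen_mem_and_subset hy
  exact ⟨⟨W, hW, res L hWV e, res L' hWV e', 𝔓.rel_res hWV h⟩, hyW⟩

/-- the swapped trivialization -/
def Triv.symm {𝔓 : Pairing L L'} (t : 𝔓.Triv) : 𝔓.symm.Triv := ⟨t.V, t.hV, t.e', t.e, t.rel⟩

end Pairing

section ofIso

variable {L L' : Y.Modules} (θ : CohB1.tensorMod L L' ⟶ Coh.structureModule Y)

/-- the pairing on sections. -/
noncomputable def pair {V : Y.Opens} (e : Γ(L, V)) (e' : Γ(L', V)) : Γ(Y, V) := ofFun.symm (θ.app V (tmul e e'))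

theorem pair_smul_left {V : Y.Opens} (a : Γ(Y, V)) (e : Γ(L, V)) (e' : Γ(L', V)) :
    pair θ (a • e) e' = a * pair θ e e' := by
  rw [pair, smul_tmul, Scheme.Modules.Hom.app_smul]
  rfl

theorem pair_smul_right {V : Y.Opens} (a : Γ(Y, V)) (e : Γ(L, V)) (e' : Γ(L', V)) :
    pair θ e (a • e') = a * pair θ e e' := by
  rw [pair, tmul_smul, Scheme.Modules.Hom.app_smul]
  rfl

theorem pair_res {V W : Y.Opens} (h : W ≤ V) (e : Γ(L, V)) (e' : Γ(L', V)) :
    pair θ (res L h e) (res L' h e') = ores h (pair θ e e') := by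
  rw [pair, ← res_tmul, app_res]
  rfl

theorem isUnit_pair [IsIso θ] {V : Y.Opens} {e : Γ(L, V)} {e' : Γ(L', V)} (he : IsGen e) (he' : IsGen e') :
    IsUnit (pair θ e e') := by
  have h1 : IsGen (θ.app V (tmul e e')) := (he.tmul he').app θ
  have h2 : θ.app V (tmul e e') = pair θ e e' • one V := ofFun_eq_smul _
  rw [h2] at h1
  exact (isGen_one V).isUnit_of_smul h1

/-- The pairing attached to an isomorphism `L ⊗ L' ≅ O`. -/
noncomputable def ofIso [IsIso θ] (hL : PicF.IsInvertible L) (hL' : PicF.IsInvertible L') : Pairing L L' where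
  rel V e e' := IsGen e ∧ IsGen e' ∧ pair θ e e' = 1
  gen h := h.1
  gen' h := h.2.1
  rel_res {V W} h {e e'} h' := ⟨h'.1.res h, h'.2.1.res h, by rw [pair_res, h'.2.2, map_one]⟩
  exists_rel y := by
    obtain ⟨U, e, hy, he⟩ := (isInvertible_iff L).mp hL y
    obtain ⟨V, e', hy', he'⟩ := (isInvertible_iff L').mp hL' y
    have g := he.res (inf_le_left : U ⊓ V ≤ U)
    have g' := he'.res (inf_le_right : U ⊓ V ≤ V)
    obtain ⟨v, hv⟩ := isUnit_pair θ g g'
    refine ⟨U ⊓ V, ⟨hy, hy'⟩, _, (↑v⁻¹ : Γ(Y, U ⊓ V)) • res L' inf_le_right e', g, g'.unit_smul (Units.isUnit _), ?_⟩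
    rw [pair_smul_right, ← hv, Units.inv_mul]
  unit {V e e₁ e' e₁'} h h₁ := by
    obtain ⟨a, ha, rfl⟩ := h.1.exists_unit h₁.1
    obtain ⟨b, hb, rfl⟩ := h.2.1.exists_unit h₁.2.1
    refine ⟨a, b, ?_, rfl, rfl⟩
    have := h₁.2.2
    rwa [pair_smul_left, pair_smul_right, h.2.2, mul_one] at this

end ofIso

end K38.LinePair
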