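import Groth.Agent.Models2.QCohColim
import Groth.Agent.CohqA.AffPush
import Groth.Agent.CycB.StalkExact
import Groth.Prelude.Def_RelSpec2

/-!
# Direct image along an affine morphism commutes with colimits of quasi-coherent modules
-/

set_option autoImplicit false
universe u
open CategoryTheory CategoryTheory.Limits AlgebraicGeometry Opposite TopologicalSpace

namespace K38.Colim

open AlgebraicGeometry.Scheme.Modules Groth.Agent.Models2.QCohColim

noncomputable section

variable {X S : Scheme.{u}}

/-- sections over an open, as a functor to abelian groups -/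
abbrev sec (V : X.Opens) : X.Modules ⥤ Ab.{u} := toPresheaf X ⋙ (evaluation _ _).obj (op V)

/-- sections over an affine open through the chart. -/
def secIso {V : X.Opens} (hV : IsAffineOpen V) :
    restrictFunctor hV.fromSpec ⋙ moduleSpecΓFunctor (R := Γ(X, V)) ⋙ forget₂ (ModuleCat.{u} Γ(X, V)) Ab.{u} ≅
      sec (X := X) (hV.fromSpec ''ᵁ ⊤) :=
  NatIso.ofComponents (fun _ => Iso.refl _) (fun _ => rfl)

theorem image_top {V : X.Opens} (hV : IsAffineOpen V) : hV.fromSpec ''ᵁ ⊤ = V := by
  simp

variable {J : Type u} [SmallCategory J]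

theorem preservesColimit_sec {V : X.Opens} (hV : IsAffineOpen V) (D : J ⥤ X.Modules)
    (hD : ∀ j, Coh.IsQCoh (D.obj j)) : PreservesColimit D (sec V) := by
  have h1 : PreservesColimit D
      (restrictFunctor hV.fromSpec ⋙ moduleSpecΓFunctor (R := Γ(X, V)) ⋙ forget₂ (ModuleCat.{u} Γ(X, V)) Ab.{u}) := by
    have h2 : PreservesColimit (D ⋙ restrictFunctor hV.fromSpec) (moduleSpecΓFunctor (R := Γ(X, V))) :=
      ⟨fun {_} hc => isColimit_Γ (D ⋙ restrictFunctor hV.fromSpec) hc fun j => isQC_restrict _ _ (hD j)⟩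
    infer_instance
  have h3 : PreservesColimit D (sec (X := X) (hV.fromSpec ''ᵁ ⊤)) :=
    preservesColimit_of_natIso D (secIso hV)
  rwa [image_top] at h3

theorem isIso_of_affine {M N : X.Modules} (φ : M ⟶ N)
    (h : ∀ U : X.affineOpens, IsIso ((sec U.1).map φ)) : IsIso φ := by
  rw [← isIso_iff_of_reflects_iso _ (toPresheaf X)]
  let F : TopCat.Sheaf Ab.{u} X := ⟨M.presheaf, M.isSheaf⟩
  let G : TopCat.Sheaf Ab.{u} X := ⟨N.presheaf, N.isSheaf⟩
  let ψ : F ⟶ G := ⟨φ.mapPresheaf⟩
  have : IsIso ψ := TopCat.Sheaf.isIso_iff_isIso_basis (B := fun U : X.affineOpens ↦ U.1)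
      (by simpa using X.isBasis_affineOpens) (φ := ψ) fun i ↦ h i
  exact @Functor.map_isIso _ _ _ _ _ _ (TopCat.Sheaf.forget Ab.{u} X) ψ this

theorem isIso_post_pushforward (f : X ⟶ S) [IsAffineHom f] (D : J ⥤ X.Modules)
    (hD : ∀ j, Coh.IsQCoh (D.obj j)) : IsIso (colimit.post D (pushforward f)) := by
  refine isIso_of_affine _ fun U => ?_
  have hE : ∀ j, Coh.IsQCoh ((D ⋙ pushforward f).obj j) := fun j =>
    Groth.Agent.CohqA.AffPush.isQCoh_push f _ (hD j)
  have h1 := preservesColimit_sec U.2 (D ⋙ pushforward f) hE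
  have h2 : PreservesColimit D (pushforward f ⋙ sec U.1) := by
    exact preservesColimit_sec (U.2.preimage f) D hD
  have h3 : colimit.post (D ⋙ pushforward f) (sec U.1) ≫ (sec U.1).map (colimit.post D (pushforward f)) =
      colimit.post D (pushforward f ⋙ sec U.1) := colimit.post_post _ _ _
  have h4 : IsIso (colimit.post (D ⋙ pushforward f) (sec U.1)) := inferInstance
  have h5 : IsIso (colimit.post D (pushforward f ⋙ sec U.1)) := inferInstance
  rw [← h3] at h5
  exact IsIso.of_isIso_comp_left (colimit.post (D ⋙ pushforward f) (sec U.1)) _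

theorem preservesColimit_pushforward (f : X ⟶ S) [IsAffineHom f] (D : J ⥤ X.Modules)
    (hD : ∀ j, Coh.IsQCoh (D.obj j)) : PreservesColimit D (pushforward f) := by
  have := isIso_post_pushforward f D hD
  exact preservesColimit_of_isIso_post _ _

/-- The direct image `AMod.dirImg` along an affine morphism commutes with small colimits of quasi-coherent modules. -/
theorem preservesColimit_dirImg (f : X ⟶ S) [IsAffineHom f] (D : J ⥤ X.Modules)
    (hD : ∀ j, Coh.IsQCoh (D.obj j)) : PreservesColimit D (AMod.dirImg f) := by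
  let R := AMod.ringSheaf (RelSpec.QCAlg.directImage f)
  have h0 : PreservesColimitsOfShape J (SheafOfModules.toSheaf.{u} R) :=
    Groth.Agent.CycB.StalkExact.toSheaf_preservesColimitsOfShape R J
  let T : S.Modules ⥤ Sheaf (Opens.grothendieckTopology S) Ab.{u} := SheafOfModules.toSheaf.{u} S.ringCatSheaf
  have h0' : PreservesColimitsOfShape J T :=
    Groth.Agent.CycB.StalkExact.toSheaf_preservesColimitsOfShape S.ringCatSheaf J
  have h1 : PreservesColimit D (AMod.dirImg f ⋙ SheafOfModules.toSheaf.{u} R) := by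
    have h2 : PreservesColimit D (pushforward f) := preservesColimit_pushforward f D hD
    have h3 : PreservesColimit D (pushforward f ⋙ T) := comp_preservesColimit _ _
    exact h3
  have : ReflectsColimitsOfShape J (SheafOfModules.toSheaf.{u} R) :=
    reflectsColimitsOfShape_of_reflectsIsomorphisms
  exact preservesColimit_of_reflects_of_preserves (AMod.dirImg f) (SheafOfModules.toSheaf.{u} R)

end

end K38.Colim
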