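import Groth.Agent.EGA2.K37.PolyRing
import Groth.Agent.EGA2.K37.ProjRing

/-!
# `Spec A_f ⟶ Spec A_(f)` is surjective; the maps `B_(g) → A_f` for `B = A[z]`
-/

set_option autoImplicit false
universe u
open CategoryTheory AlgebraicGeometry HomogeneousLocalization
open scoped HomogeneousIdeal

namespace K38.ConeRing

variable {A B σ τ : Type u} [CommRing A] [CommRing B] [SetLike σ A] [AddSubgroupClass σ A]
  [SetLike τ B] [AddSubgroupClass τ B] {𝒜 : ℕ → σ} [GradedRing 𝒜] {ℬ : ℕ → τ} [GradedRing ℬ]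

section surj

variable {f : A} {d : ℕ} (hf : f ∈ 𝒜 d) (hd : 0 < d)

include hd in
theorem mem_awayι_iff (y : Spec (CommRingCat.of (Away 𝒜 f))) {n : ℕ} (hn : 0 < n) {a : A} (ha : a ∈ 𝒜 (n • d)) :
    a ∈ (Proj.awayι 𝒜 f hf hd y).asHomogeneousIdeal ↔ Away.mk 𝒜 hf n a ha ∈ y.asIdeal := by
  have hnd : 0 < n • d := by rw [smul_eq_mul]; positivity
  rw [← not_iff_not]
  have h1 : a ∉ (Proj.awayι 𝒜 f hf hd y).asHomogeneousIdeal ↔
      y ∈ Proj.awayι 𝒜 f hf hd ⁻¹ᵁ Proj.basicOpen 𝒜 a := Iff.rfl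
  rw [h1, Proj.awayι_preimage_basicOpen 𝒜 hf hd ha hnd]
  change Away.isLocalizationElem hf ha ∉ y.asIdeal ↔ _
  have h2 : (Away.isLocalizationElem hf ha : Away 𝒜 f) = (Away.mk 𝒜 hf n a ha) ^ d := by
    apply HomogeneousLocalization.val_injective
    rw [HomogeneousLocalization.val_pow, Away.val_mk]
    change (Away.mk 𝒜 hf (n • d) (a ^ d) (by
      have := SetLike.pow_mem_graded d ha
      rwa [show d • n • d = (n • d) • d by simp only [smul_eq_mul]; ring] at this)).val = _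
    rw [Away.val_mk, Away.val_mk, Localization.mk_pow]
    congr 1
    ext
    simp [pow_mul]
  rw [h2, not_iff_not]
  exact ⟨fun h => y.2.mem_of_pow_mem _ h, fun h => Ideal.pow_mem_of_mem _ h _ hd⟩

include hf hd in
theorem exists_lift (y : Spec (CommRingCat.of (Away 𝒜 f))) :
    ∃ w : Spec (CommRingCat.of (Localization.Away f)),
      Spec.map (CommRingCat.ofHom (algebraMap (Away 𝒜 f) (Localization.Away f))) w = y := by
  let 𝔭 := Proj.awayι 𝒜 f hf hd y
  have hfp : f ∉ 𝔭.asHomogeneousIdeal := by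
    have h1 : 𝔭 ∈ Proj.basicOpen 𝒜 f := by
      rw [← Proj.opensRange_awayι 𝒜 f hf hd]
      exact ⟨y, rfl⟩
    exact h1
  have hpr : 𝔭.asHomogeneousIdeal.toIdeal.IsPrime := 𝔭.isPrime
  let w₀ : PrimeSpectrum A := ⟨𝔭.asHomogeneousIdeal.toIdeal, hpr⟩
  have hw₀ : w₀ ∈ Set.range (PrimeSpectrum.comap (algebraMap A (Localization.Away f))) := by
    rw [PrimeSpectrum.localization_away_comap_range (Localization.Away f) f]
    exact hfp
  obtain ⟨w, hw⟩ := hw₀
  refine ⟨w, ?_⟩
  apply PrimeSpectrum.ext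
  ext q
  obtain ⟨n, a, ha, hq⟩ := Away.mk_surjective 𝒜 hf q
  have ha' : f * a ∈ 𝒜 ((n + 1) • d) := by
    have := SetLike.mul_mem_graded hf ha
    rwa [show d + n • d = (n + 1) • d by rw [succ_nsmul']] at this
  have hq' : q = Away.mk 𝒜 hf (n + 1) (f * a) ha' := by
    rw [← hq]
    exact (K37.ProjRing.mk_succ hf n a ha ha').symm
  have key := mem_awayι_iff hf hd y n.succ_pos ha'
  rw [← hq'] at key
  rw [← key]
  change algebraMap (Away 𝒜 f) (Localization.Away f) q ∈ w.asIdeal ↔ f * a ∈ 𝔭.asHomogeneousIdeal.toIdeal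
  have e1 : f * a ∈ 𝔭.asHomogeneousIdeal.toIdeal ↔ algebraMap A (Localization.Away f) (f * a) ∈ w.asIdeal := by
    have h3 : w₀.asIdeal = w.asIdeal.comap (algebraMap A (Localization.Away f)) := by rw [← hw]; rfl
    change f * a ∈ w₀.asIdeal ↔ _
    rw [h3]
    rfl
  rw [e1, hq']
  have e2 : algebraMap A (Localization.Away f) (f * a) =
      algebraMap (Away 𝒜 f) (Localization.Away f) (Away.mk 𝒜 hf (n + 1) (f * a) ha') *
        algebraMap A (Localization.Away f) (f ^ (n + 1)) := by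
    rw [HomogeneousLocalization.algebraMap_apply, Away.val_mk, Localization.mk_eq_mk'_apply]
    exact (IsLocalization.mk'_spec (Localization.Away f) (f * a)
      (⟨f ^ (n + 1), ⟨n + 1, rfl⟩⟩ : Submonoid.powers f)).symm
  rw [e2]
  have hu : IsUnit (algebraMap A (Localization.Away f) (f ^ (n + 1))) := by
    rw [map_pow]; exact (IsLocalization.Away.algebraMap_isUnit f).pow _
  rw [Ideal.mul_unit_mem_iff_mem _ hu]

end surj

section lam

variable {g : B} {f : A} (ev : B →+* A)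

/-- `B_(g) → A_f`, `x / g^n ↦ ev x / (ev g)^n`. -/
noncomputable def lam (hg : IsUnit (algebraMap A (Localization.Away f) (ev g))) :
    Away ℬ g →+* Localization.Away f :=
  (Localization.awayLift ((algebraMap A (Localization.Away f)).comp ev) g hg).comp
    (algebraMap (Away ℬ g) (Localization.Away g))

theorem lam_mk (hg : IsUnit (algebraMap A (Localization.Away f) (ev g))) {d : ℕ} (hgd : g ∈ ℬ d) (n : ℕ) (x : B)
    (hx : x ∈ ℬ (n • d)) :
    lam ev hg (Away.mk ℬ hgd n x hx) * algebraMap A (Localization.Away f) (ev g ^ n) =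
      algebraMap A (Localization.Away f) (ev x) := by
  rw [lam, RingHom.comp_apply, HomogeneousLocalization.algebraMap_apply, Away.val_mk]
  have h1 : ∀ y : B, Localization.awayLift ((algebraMap A (Localization.Away f)).comp ev) g hg
      (algebraMap B (Localization.Away g) y) = algebraMap A (Localization.Away f) (ev y) :=
    fun y => IsLocalization.Away.lift_eq g hg y
  rw [← map_pow ev, ← h1, ← h1, ← map_mul, Localization.mk_eq_mk'_apply]
  congr 1
  exact IsLocalization.mk'_spec (Localization.Away g) x (⟨g ^ n, ⟨n, rfl⟩⟩ : Submonoid.powers g)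

/-- uniqueness. -/
theorem eq_lam_mk (hg : IsUnit (algebraMap A (Localization.Away f) (ev g))) {d : ℕ} (hgd : g ∈ ℬ d) (n : ℕ) (x : B)
    (hx : x ∈ ℬ (n • d)) (t : Localization.Away f)
    (ht : t * algebraMap A (Localization.Away f) (ev g ^ n) = algebraMap A (Localization.Away f) (ev x)) :
    lam ev hg (Away.mk ℬ hgd n x hx) = t := by
  have hu : IsUnit (algebraMap A (Localization.Away f) (ev g ^ n)) := by rw [map_pow]; exact hg.pow n
  rw [← hu.mul_left_inj, lam_mk, ht]

/-- compatibility with `awayMap`. -/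
theorem lam_comp_awayMap {d e : ℕ} {g g' x : B} (hgd : g ∈ ℬ d) (hg'e : g' ∈ ℬ e) (hx : x = g * g')
    (hg : IsUnit (algebraMap A (Localization.Away f) (ev g))) (hxu : IsUnit (algebraMap A (Localization.Away f) (ev x))) :
    (lam ev hxu).comp (HomogeneousLocalization.awayMap ℬ hg'e hx) = lam (ℬ := ℬ) ev hg := by
  ext q
  obtain ⟨n, a, ha, rfl⟩ := Away.mk_surjective ℬ hgd q
  rw [RingHom.comp_apply, HomogeneousLocalization.awayMap_mk]
  refine eq_lam_mk ev hxu _ n _ _ _ ?_
  have h1 := lam_mk ev hg hgd n a ha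
  rw [hx, map_mul, mul_pow, map_mul, ← mul_assoc, h1, map_mul, map_mul, map_pow ev]

/-- `B_(z) ≅ A → A_f`. -/
theorem lam_theta {z : B} {hz : z ∈ ℬ 1} {θ : Away ℬ z →+* A} (hθ : K37.PolyRing.ThetaSpec hz ev θ) (hev : ev z = 1)
    (hzu : IsUnit (algebraMap A (Localization.Away f) (ev z))) :
    lam ev hzu = (algebraMap A (Localization.Away f)).comp θ := by
  ext q
  obtain ⟨n, a, ha, rfl⟩ := Away.mk_surjective ℬ hz q
  refine eq_lam_mk ev hzu _ n _ _ _ ?_
  rw [RingHom.comp_apply, hθ, hev, one_pow, map_one, mul_one]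

/-- `A_(f) → B_(ιf) → A_f` is the inclusion. -/
theorem lam_comp_map (ι : 𝒜 →+*ᵍ ℬ) (hι : ∀ a, ev (ι a) = a) {d : ℕ} (hf : f ∈ 𝒜 d)
    (hu : IsUnit (algebraMap A (Localization.Away f) (ev (ι f)))) :
    (lam ev hu).comp (Away.map ι f) = algebraMap (Away 𝒜 f) (Localization.Away f) := by
  ext q
  obtain ⟨n, a, ha, rfl⟩ := Away.mk_surjective 𝒜 hf q
  rw [RingHom.comp_apply, Away.map_mk]
  refine eq_lam_mk ev hu (ι.map_mem hf) n _ _ _ ?_
  rw [hι, hι, HomogeneousLocalization.algebraMap_apply, Away.val_mk, Localization.mk_eq_mk'_apply]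
  exact IsLocalization.mk'_spec (Localization.Away f) a (⟨f ^ n, ⟨n, rfl⟩⟩ : Submonoid.powers f)

/-- The two descriptions of `Spec A_f ⟶ Proj B`. -/
theorem chart_eq {z g : B} (hz : z ∈ ℬ 1) {d : ℕ} (hd : 0 < d) (hg : g ∈ ℬ d) {θ : Away ℬ z →+* A}
    (hθ : K37.PolyRing.ThetaSpec hz ev θ) (hev : ev z = 1)
    (hu : IsUnit (algebraMap A (Localization.Away f) (ev g))) :
    Spec.map (CommRingCat.ofHom (algebraMap A (Localization.Away f))) ≫ Spec.map (CommRingCat.ofHom θ) ≫
        Proj.awayι ℬ z hz one_pos =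
      Spec.map (CommRingCat.ofHom (lam (ℬ := ℬ) ev hu)) ≫ Proj.awayι ℬ g hg hd := by
  have hzu : IsUnit (algebraMap A (Localization.Away f) (ev z)) := by
    rw [hev, map_one]; exact isUnit_one
  have hxu : IsUnit (algebraMap A (Localization.Away f) (ev (z * g))) := by
    rw [map_mul, map_mul]; exact hzu.mul hu
  have h1 := lam_theta (f := f) ev hθ hev hzu
  have h2 := lam_comp_awayMap (ℬ := ℬ) (f := f) ev hz hg rfl hzu hxu
  have h3 := lam_comp_awayMap (ℬ := ℬ) (f := f) ev hg hz (mul_comm _ _) hu hxu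
  rw [← h3, ← Category.assoc, ← Spec.map_comp, ← CommRingCat.ofHom_comp, ← h1, ← h2, CommRingCat.ofHom_comp,
    CommRingCat.ofHom_comp, Spec.map_comp, Spec.map_comp, Category.assoc, Category.assoc,
    Proj.SpecMap_awayMap_awayι, Proj.SpecMap_awayMap_awayι]
  rfl

end lam

end K38.ConeRing
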