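import Groth.Agent.EGA2.K38.Retr
import Groth.Agent.EGA2.K38.ConeRing

/-!
# The canonical retraction of the pointed affine cone
-/

set_option autoImplicit false
universe u
open CategoryTheory CategoryTheory.Limits AlgebraicGeometry Opposite TopologicalSpace
open HomogeneousLocalization K42.DomMap K42.DomQ K42.DomHom K38.Retr
open scoped HomogeneousIdeal

namespace K38.ConeGeo

variable {Y PC P : Scheme.{u}} {𝒮 𝒮h : RelProj.QCGrAlg Y}
    {ι : 𝒮.toQCAlg ⟶ 𝒮h.toQCAlg} {z : 𝒮h.presheaf.obj (op ⊤)} (hz : RelCone.IsPolyOver 𝒮 𝒮h ι z)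
    {pC : PC ⟶ Y}
    {chartC : ∀ (U : Y.Opens) (hU : IsAffineOpen U), (((pC ⁻¹ᵁ U : PC.Opens) : Scheme.{u}) ≅ Proj (𝒮h.deg U hU))}
    (hPC : RelProj.IsRelProj 𝒮h pC chartC)
    {p : P ⟶ Y}
    {chart : ∀ (U : Y.Opens) (hU : IsAffineOpen U), (((p ⁻¹ᵁ U : P.Opens) : Scheme.{u}) ≅ Proj (𝒮.deg U hU))}
    (hP : RelProj.IsRelProj 𝒮 p chart)
    {i : 𝒮.toQCAlg.spec ⟶ PC} (hi : RelCone.IsConeImm 𝒮 hz pC chartC i)

theorem mem_vertexCompl_iff {R : CommRingCat.{u}} (𝒜 : ℕ → AddSubgroup R) [GradedRing 𝒜] (x : Spec R) :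
    x ∈ RelCone.vertexCompl 𝒜 ↔ ∃ (d : ℕ) (_ : 0 < d) (f : R) (_ : f ∈ 𝒜 d), f ∉ x.asIdeal := by
  rw [K37.ConePts.mem_vertexCompl, HomogeneousIdeal.toIdeal_irrelevant_le]
  constructor
  · intro h
    by_contra hcon
    push Not at hcon
    exact h fun d hd f hf => hcon d hd f hf
  · rintro ⟨d, hd, f, hf, hfx⟩ h
    exact hfx (h d hd hf)

include hPC hi in
/-- `E = i⁻¹(Ê)`. -/
theorem pointedCone_eq : RelCone.pointedCone 𝒮 = i ⁻¹ᵁ RelCone.pointedProjCone 𝒮 hz pC chartC := by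
  ext c
  obtain ⟨U, hU, x, rfl⟩ := K37.SpecBase.exists_chart 𝒮.toQCAlg c
  have h1 := K37.ConePts.ι_mem_pointedCone_iff 𝒮 U hU x
  refine h1.trans ?_
  change _ ↔ i (𝒮.toQCAlg.ι U hU x) ∈ RelCone.pointedProjCone 𝒮 hz pC chartC
  have e : i (𝒮.toQCAlg.ι U hU x) = RelProj.emb pC chartC U hU
      (Proj.awayι (𝒮h.deg U hU) (RelCone.restrictTop 𝒮h z U) (hz.deg_z U hU) one_pos
        (Spec.map (CommRingCat.ofHom (hz.awayZToBase U hU)) x)) := by
    rw [← Scheme.Hom.comp_apply, hi U hU]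
    rfl
  rw [e, K37.ConeProj2.emb_mem_pointedProjCone_iff hz hPC U hU, mem_domOpen_iff, mem_vertexCompl_iff]
  refine exists_congr fun d => exists_congr fun hd => exists_congr fun f => exists_congr fun hf => ?_
  exact not_congr (K37.ConeProj2.ι_mem_awayι_iff hz U hU x hd hf).symm

include hPC hi in
theorem isAffineHom_lift (W : PC.Opens) (E : 𝒮.toQCAlg.spec.Opens) (hE : E = i ⁻¹ᵁ W)
    (i' : (E : Scheme.{u}) ⟶ (W : Scheme.{u})) (hi' : i' ≫ W.ι = E.ι ≫ i) : IsAffineHom i' := by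
  subst hE
  have h := K37.ConeImm.isAffineHom hz hPC hi
  have e : i' = i ∣_ W := by rw [← cancel_mono W.ι, hi', morphismRestrict_ι]
  rw [e]
  exact IsZariskiLocalAtTarget.restrict h W

include hi in
theorem surjective {r : ((RelProj.domQ (u hz) pC chartC : PC.Opens) : Scheme.{u}) ⟶ P}
    (hr : Q hz chart (chartC := chartC) _ r)
    (i' : ((RelCone.pointedCone 𝒮 : 𝒮.toQCAlg.spec.Opens) : Scheme.{u}) ⟶
      ((RelProj.domQ (u hz) pC chartC : PC.Opens) : Scheme.{u}))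
    (hi' : i' ≫ (RelProj.domQ (u hz) pC chartC).ι = (RelCone.pointedCone 𝒮).ι ≫ i) :
    Function.Surjective (i' ≫ r).base := by
  intro x
  obtain ⟨U, hU, hxU, -⟩ := exists_isAffineOpen_mem_and_subset (x := p.base x) (U := ⊤) trivial
  obtain ⟨d, hd, f, hf, hx⟩ := exists_mem_std p chart U hU x hxU
  obtain ⟨g, hg, hg1, hg2⟩ := exists_lift hz (pC := pC) (chartC := chartC) U hU hd f hf
  have hx' : x ∈ (aff p chart U hU hd f hf).opensRange := by rw [opensRange_aff]; exact hx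
  obtain ⟨y, rfl⟩ := hx'
  obtain ⟨w, rfl⟩ := K38.ConeRing.exists_lift hf hd y
  have hk₀ : Set.range (Spec.map (CommRingCat.ofHom (algebraMap _ (Localization.Away f))) ≫ 𝒮.toQCAlg.ι U hU).base ⊆
      Set.range (RelCone.pointedCone 𝒮).ι.base := by
    rw [Scheme.Opens.range_ι]
    rintro _ ⟨v, rfl⟩
    refine (K37.ConePts.ι_mem_pointedCone_iff 𝒮 U hU _).mpr ?_
    rw [mem_vertexCompl_iff]
    refine ⟨d, hd, f, hf, fun hfv => v.2.ne_top ?_⟩
    have hfv' : algebraMap _ (Localization.Away f) f ∈ v.asIdeal := hfv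
    exact Ideal.eq_top_of_isUnit_mem _ hfv' (IsLocalization.Away.algebraMap_isUnit f)
  let k := IsOpenImmersion.lift (RelCone.pointedCone 𝒮).ι
    (Spec.map (CommRingCat.ofHom (algebraMap _ (Localization.Away f))) ≫ 𝒮.toQCAlg.ι U hU) hk₀
  have hk : k ≫ (RelCone.pointedCone 𝒮).ι =
    Spec.map (CommRingCat.ofHom (algebraMap _ (Localization.Away f))) ≫ 𝒮.toQCAlg.ι U hU := IsOpenImmersion.lift_fac _ _ _
  have hu : IsUnit (algebraMap (𝒮.presheaf.obj (op U)) (Localization.Away f)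
      (hz.evalOne U hU ((RelProj.gradedHomAt ι hz.graded U hU) f))) := by
    have := K37.ConeProj.evι hz U hU f
    rw [this]
    exact IsLocalization.Away.algebraMap_isUnit f
  have e1 : k ≫ i' = Spec.map (CommRingCat.ofHom (K38.ConeRing.lam (ℬ := 𝒮h.deg U hU) (hz.evalOne U hU) hu)) ≫ g := by
    rw [← cancel_mono (RelProj.domQ (u hz) pC chartC).ι, Category.assoc, hi', reassoc_of% hk, hi U hU,
      Category.assoc, hg2]
    have h := K38.ConeRing.chart_eq (f := f) (hz.evalOne U hU) (hz.deg_z U hU) hd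
      (g := (RelProj.gradedHomAt ι hz.graded U hU) f) ((RelProj.gradedHomAt ι hz.graded U hU).2 hf)
      (K37.ConeProj.thetaSpec hz U hU) (hz.evalOne_z U hU) hu
    exact (reassoc_of% h) (RelProj.emb pC chartC U hU)
  have e2 : k ≫ i' ≫ r = Spec.map (CommRingCat.ofHom (algebraMap (Away (𝒮.deg U hU) f) (Localization.Away f))) ≫
      aff p chart U hU hd f hf := by
    rw [reassoc_of% e1, hr U hU d hd f hf g hg2, ← Category.assoc, ← Spec.map_comp, ← CommRingCat.ofHom_comp,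
      K38.ConeRing.lam_comp_map (hz.evalOne U hU) (RelProj.gradedHomAt ι hz.graded U hU) (K37.ConeProj.evι hz U hU) hf hu]
    rfl
  refine ⟨k w, ?_⟩
  rw [← Scheme.Hom.comp_apply, e2]
  rfl

include hPC hP hi in
theorem main (W : PC.Opens) (hW : W = RelProj.domQ (u hz) pC chartC) (hW' : W = RelCone.pointedProjCone 𝒮 hz pC chartC)
    (r : (W : Scheme.{u}) ⟶ P) (hr : Q hz chart (chartC := chartC) W r) :
    (RelCone.pointedCone 𝒮 : 𝒮.toQCAlg.spec.Opens) ≤ i ⁻¹ᵁ W ∧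
      ∀ i' : ((RelCone.pointedCone 𝒮 : 𝒮.toQCAlg.spec.Opens) : Scheme.{u}) ⟶ (W : Scheme.{u}),
        i' ≫ W.ι = (RelCone.pointedCone 𝒮).ι ≫ i →
          IsAffineHom (i' ≫ r) ∧ Function.Surjective (i' ≫ r).base := by
  have hE := pointedCone_eq hz hPC hi
  rw [← hW'] at hE
  refine ⟨hE.le, fun i' hi' => ?_⟩
  have h1 := isAffineHom_lift hz hPC hi W _ hE i' hi'
  subst hW
  have h2 := isAffineHom_of_q hz hPC hP hr
  exact ⟨inferInstance, surjective hz hi hr i' hi'⟩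

end K38.ConeGeo
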