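import Groth.Agent.EGA2.K38.LineCone

/-!
# Exchanging the zero section and the locus at infinity
-/

set_option autoImplicit false
universe u
open CategoryTheory CategoryTheory.Limits AlgebraicGeometry Opposite TopologicalSpace
open scoped HomogeneousIdeal

noncomputable section

namespace K38.ConeSwap

open Groth.Agent.Fdesc.LocGen K38.LinePair K38.TwoVar K36.SymAlg K41.LineAlg K38.LineCone

variable {Y : Scheme.{u}}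

/-- `Sym(L)` and `Sym(L)[z]`. -/
structure Dat (L : Y.Modules) where
  𝒮 : RelProj.QCGrAlg Y
  𝒮h : RelProj.QCGrAlg Y
  j : L ⟶ 𝒮.toModule
  hLq : Coh.IsQCoh L
  hS : RelProj.IsGrSymAlg L 𝒮 j
  ι : 𝒮.toQCAlg ⟶ 𝒮h.toQCAlg
  z : 𝒮h.presheaf.obj (op ⊤)
  hz : RelCone.IsPolyOver 𝒮 𝒮h ι z

variable {L L' : Y.Modules} (D : Dat L) (D' : Dat L') (𝔓 : Pairing L L')

/-- `T` -/
abbrev Dat.T (D : Dat L) {V : Y.Opens} (hV : IsAffineOpen V) (e : Γ(L, V)) : D.𝒮h.presheaf.obj (op V) :=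
  gι D.hz hV (jS D.j e)

/-- `z` -/
abbrev Dat.zV (D : Dat L) (V : Y.Opens) : D.𝒮h.presheaf.obj (op V) := RelCone.restrictTop D.𝒮h D.z V

theorem Dat.T_mem (D : Dat L) {V : Y.Opens} (hV : IsAffineOpen V) (e : Γ(L, V)) : D.T hV e ∈ D.𝒮h.deg V hV 1 :=
  (gι D.hz hV).map_mem (D.hS.2 V hV e)

theorem Dat.T_smul (D : Dat L) {V : Y.Opens} (hV : IsAffineOpen V) (r : Γ(Y, V)) (e : Γ(L, V)) :
    D.T hV (r • e) = str D.𝒮h V r * D.T hV e := by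
  have h1 : jS D.j (r • e) = str D.𝒮 V r * jS D.j e := jApp_smul L D.𝒮.toQCAlg D.j V r e
  have h2 := gι_str D.hz hV r
  rw [Dat.T, h1, map_mul, h2]

theorem Dat.T_res (D : Dat L) {V W : Y.Opens} (hV : IsAffineOpen V) (hW : IsAffineOpen W) (i : W ≤ V) (e : Γ(L, V)) :
    D.𝒮h.res hV hW i (D.T hV e) = D.T hW (Groth.Agent.Fdesc.LocGen.res L i e) := by
  have h1 : (D.𝒮h.presheaf.map (homOfLE i).op).hom ((D.ι.hom.app (op V)).hom (jS D.j e)) =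
      (D.ι.hom.app (op W)).hom ((D.𝒮.presheaf.map (homOfLE i).op).hom (jS D.j e)) :=
    (congrArg (fun g => g.hom (jS D.j e)) (D.ι.hom.naturality (homOfLE i).op)).symm
  have h2 := jApp_res L D.𝒮.toQCAlg D.j i e
  refine h1.trans ?_
  rw [← h2]
  rfl

/-- `σ : 𝒮h'(V) → 𝒮h(V)`, `T' ↦ z`, `z' ↦ T`. -/
def σ (t : 𝔓.Triv) : D'.𝒮h.deg t.V t.hV →+*ᵍ D.𝒮h.deg t.V t.hV :=
  lft D'.hLq D'.hS D'.hz t.hV (𝔓.gen' t.rel) (str D.𝒮h t.V) (fun r => D.𝒮h.str_mem t.V t.hV r)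
    (D.hz.deg_z t.V t.hV) (D.T_mem t.hV t.e)

theorem σ_str (t : 𝔓.Triv) (r : Γ(Y, t.V)) : σ D D' 𝔓 t (str D'.𝒮h t.V r) = str D.𝒮h t.V r := by
  have := gι_str D'.hz t.hV r
  rw [← this]
  exact lft_str _ _ _ _ _ _ _ _ _ r

theorem σ_T (t : 𝔓.Triv) : σ D D' 𝔓 t (D'.T t.hV t.e') = D.zV t.V := lft_T _ _ _ _ _ _ _ _ _

theorem σ_z (t : 𝔓.Triv) : σ D D' 𝔓 t (D'.zV t.V) = D.T t.hV t.e := lft_z _ _ _ _ _ _ _ _ _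

/-- the inverse of `σ` -/
abbrev σi (t : 𝔓.Triv) : D.𝒮h.deg t.V t.hV →+*ᵍ D'.𝒮h.deg t.V t.hV := σ D' D 𝔓.symm t.symm

theorem σi_str (t : 𝔓.Triv) (r : Γ(Y, t.V)) : σi D D' 𝔓 t (str D.𝒮h t.V r) = str D'.𝒮h t.V r :=
  σ_str D' D 𝔓.symm t.symm r

theorem σi_T (t : 𝔓.Triv) : σi D D' 𝔓 t (D.T t.hV t.e) = D'.zV t.V := σ_T D' D 𝔓.symm t.symm

theorem σi_z (t : 𝔓.Triv) : σi D D' 𝔓 t (D.zV t.V) = D'.T t.hV t.e' := σ_z D' D 𝔓.symm t.symm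

theorem σ_σi (t : 𝔓.Triv) (x : D.𝒮h.presheaf.obj (op t.V)) : σ D D' 𝔓 t (σi D D' 𝔓 t x) = x := by
  have h := hom_ext' D.hLq D.hS D.hz t.hV (𝔓.gen t.rel)
    ((σ D D' 𝔓 t : D'.𝒮h.presheaf.obj (op t.V) →+* D.𝒮h.presheaf.obj (op t.V)).comp
      (σi D D' 𝔓 t : D.𝒮h.presheaf.obj (op t.V) →+* D'.𝒮h.presheaf.obj (op t.V))) (RingHom.id _)
    (fun r => ?_) ?_ ?_
  · exact congrArg (fun t => t x) h
  · change σ D D' 𝔓 t (σi D D' 𝔓 t (str D.𝒮h t.V r)) = str D.𝒮h t.V r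
    rw [σi_str, σ_str]
  · change σ D D' 𝔓 t (σi D D' 𝔓 t (D.T t.hV t.e)) = D.T t.hV t.e
    rw [σi_T, σ_z]
  · change σ D D' 𝔓 t (σi D D' 𝔓 t (D.zV t.V)) = D.zV t.V
    rw [σi_z, σ_T]

theorem σi_σ (t : 𝔓.Triv) (x : D'.𝒮h.presheaf.obj (op t.V)) : σi D D' 𝔓 t (σ D D' 𝔓 t x) = x :=
  σ_σi D' D 𝔓.symm t.symm x

/-- irrelevant ideals -/
theorem irr_of_section {A B σ τ : Type u} [CommRing A] [CommRing B] [SetLike σ A] [AddSubgroupClass σ A]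
    [SetLike τ B] [AddSubgroupClass τ B] {𝒜 : ℕ → σ} [GradedRing 𝒜] {ℬ : ℕ → τ} [GradedRing ℬ]
    (f : 𝒜 →+*ᵍ ℬ) (g : ℬ →+*ᵍ 𝒜) (h : ∀ x, f (g x) = x) : ℬ₊ ≤ (𝒜₊).map f := by
  rw [HomogeneousIdeal.irrelevant_le]
  intro k hk x hx
  have h1 : g x ∈ 𝒜₊ := HomogeneousIdeal.mem_irrelevant_of_mem _ hk (g.map_mem hx)
  have h2 : f (g x) ∈ Ideal.map f (𝒜₊).toIdeal := Ideal.mem_map_of_mem _ h1
  rw [h] at h2
  exact h2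

theorem σ_irr (t : 𝔓.Triv) : (D.𝒮h.deg t.V t.hV)₊ ≤ ((D'.𝒮h.deg t.V t.hV)₊).map (σ D D' 𝔓 t) :=
  irr_of_section _ (σi D D' 𝔓 t) (σ_σi D D' 𝔓 t)

theorem Dat.z_res (D : Dat L) {V W : Y.Opens} (hV : IsAffineOpen V) (hW : IsAffineOpen W) (i : W ≤ V) :
    D.𝒮h.res hV hW i (D.zV V) = D.zV W := K37.ConeImm.restrictTop_res i

theorem res_str' (𝒜 : RelProj.QCGrAlg Y) {V W : Y.Opens} (hV : IsAffineOpen V) (hW : IsAffineOpen W) (i : W ≤ V)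
    (r : Γ(Y, V)) : 𝒜.res hV hW i (str 𝒜 V r) = str 𝒜 W (resO i r) := K41.LineAlg.res_str 𝒜 i r

section glue

variable {PC : Scheme.{u}} {pC : PC ⟶ Y}
    {chartC : ∀ (U : Y.Opens) (hU : IsAffineOpen U), (((pC ⁻¹ᵁ U : PC.Opens) : Scheme.{u}) ≅ Proj (D.𝒮h.deg U hU))}
    (hPC : RelProj.IsRelProj D.𝒮h pC chartC)
    {PC' : Scheme.{u}} {pC' : PC' ⟶ Y}
    {chartC' : ∀ (U : Y.Opens) (hU : IsAffineOpen U), (((pC' ⁻¹ᵁ U : PC'.Opens) : Scheme.{u}) ≅ Proj (D'.𝒮h.deg U hU))}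
    (hPC' : RelProj.IsRelProj D'.𝒮h pC' chartC')

variable (pC' chartC') in
/-- the morphism on the chart -/
def mor (t : 𝔓.Triv) : Proj (D.𝒮h.deg t.V t.hV) ⟶ PC' :=
  Proj.map (σ D D' 𝔓 t) (σ_irr D D' 𝔓 t) ≫ RelProj.emb pC' chartC' t.V t.hV

theorem twist (t c : 𝔓.Triv) (i : c.V ≤ t.V) : ∃ w ∈ D.𝒮h.deg c.V c.hV 0, ∀ n, ∀ x ∈ D'.𝒮h.deg t.V t.hV n,
    ((D.𝒮h.res t.hV c.hV i).comp (σ D D' 𝔓 t)) x =
      w ^ n * ((σ D D' 𝔓 c).comp (D'.𝒮h.res t.hV c.hV i)) x := by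
  obtain ⟨a, b, hab, h1, h2⟩ := 𝔓.unit (𝔓.rel_res i t.rel) c.rel
  have h1' : Groth.Agent.Fdesc.LocGen.res L i t.e = b • c.e := by
    rw [h1, smul_smul, mul_comm, hab, one_smul]
  have h2' : Groth.Agent.Fdesc.LocGen.res L' i t.e' = a • c.e' := by
    rw [h2, smul_smul, hab, one_smul]
  have hs : str D.𝒮h c.V b * str D.𝒮h c.V a = 1 := by rw [← map_mul, mul_comm, hab, map_one]
  refine ⟨str D.𝒮h c.V b, str_mem c.hV b, fun n x hx => ?_⟩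
  refine eq_pow_mul D'.hLq D'.hS D'.hz t.hV (𝔓.gen' t.rel)
    (((D.𝒮h.res t.hV c.hV i).comp (σ D D' 𝔓 t) : D'.𝒮h.deg t.V t.hV →+*ᵍ D.𝒮h.deg c.V c.hV) :
      D'.𝒮h.presheaf.obj (op t.V) →+* D.𝒮h.presheaf.obj (op c.V))
    (((σ D D' 𝔓 c).comp (D'.𝒮h.res t.hV c.hV i) : D'.𝒮h.deg t.V t.hV →+*ᵍ D.𝒮h.deg c.V c.hV) :
      D'.𝒮h.presheaf.obj (op t.V) →+* D.𝒮h.presheaf.obj (op c.V)) (str D.𝒮h c.V b) (fun r => ?_) ?_ ?_ hx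
  · change D.𝒮h.res t.hV c.hV i (σ D D' 𝔓 t (str D'.𝒮h t.V r)) = σ D D' 𝔓 c (D'.𝒮h.res t.hV c.hV i (str D'.𝒮h t.V r))
    rw [σ_str, res_str', res_str', σ_str]
  · change D.𝒮h.res t.hV c.hV i (σ D D' 𝔓 t (D'.T t.hV t.e')) =
      str D.𝒮h c.V b * σ D D' 𝔓 c (D'.𝒮h.res t.hV c.hV i (D'.T t.hV t.e'))
    rw [σ_T, D.z_res, D'.T_res, h2', D'.T_smul, map_mul, σ_str, σ_T, ← mul_assoc, hs, one_mul]
  · change D.𝒮h.res t.hV c.hV i (σ D D' 𝔓 t (D'.zV t.V)) =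
      str D.𝒮h c.V b * σ D D' 𝔓 c (D'.𝒮h.res t.hV c.hV i (D'.zV t.V))
    rw [σ_z, D'.z_res, D.T_res, h1', D.T_smul, σ_z]

include hPC hPC' in
theorem refines (t c : 𝔓.Triv) (r : Γ(Y, t.V)) (h : Y.basicOpen r = c.V) (i : c.V ≤ t.V) :
    K40.GlueHom.Refines (fun t : 𝔓.Triv => Proj (D.𝒮h.deg t.V t.hV)) (fun t => RelProj.emb pC chartC t.V t.hV)
      (mor D D' 𝔓 pC' chartC') c t := by
  refine ⟨Proj.map (D.𝒮h.res t.hV c.hV i) (K37.ProjBase.irr_of_eq D.𝒮h t.hV c.hV r h i),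
    K37.ProjBase.emb_res_of_eq hPC t.hV c.hV r h i, ?_⟩
  obtain ⟨w, hw, hx⟩ := twist D D' 𝔓 t c i
  rw [mor, mor, ← K37.ProjBase.emb_res_of_eq hPC' t.hV c.hV r h i, ← Category.assoc, ← Category.assoc,
    ← Proj.map_comp, ← Proj.map_comp]
  congr 1
  exact projMap_eq _ _ _ _ w hw hx

end glue

end K38.ConeSwap
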