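import Groth.Agent.EGA2.K38.ConeSwap
import Groth.Agent.EGA2.K42.DomQ

/-!
# Exchanging the zero section and the locus at infinity: globalization
-/

set_option autoImplicit false
universe u
open CategoryTheory CategoryTheory.Limits AlgebraicGeometry Opposite TopologicalSpace
open scoped HomogeneousIdeal

noncomputable section

namespace K38.ConeSwap

open Groth.Agent.Fdesc.LocGen K38.LinePair K38.TwoVar K36.SymAlg K41.LineAlg K38.LineCone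

variable {Y : Scheme.{u}}
variable {L L' : Y.Modules} (D : Dat L) (D' : Dat L') (𝔓 : Pairing L L')

section glue

variable {PC : Scheme.{u}} {pC : PC ⟶ Y}
    {chartC : ∀ (U : Y.Opens) (hU : IsAffineOpen U), (((pC ⁻¹ᵁ U : PC.Opens) : Scheme.{u}) ≅ Proj (D.𝒮h.deg U hU))}
    (hPC : RelProj.IsRelProj D.𝒮h pC chartC)
    {PC' : Scheme.{u}} {pC' : PC' ⟶ Y}
    {chartC' : ∀ (U : Y.Opens) (hU : IsAffineOpen U), (((pC' ⁻¹ᵁ U : PC'.Opens) : Scheme.{u}) ≅ Proj (D'.𝒮h.deg U hU))}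
    (hPC' : RelProj.IsRelProj D'.𝒮h pC' chartC')

variable (pC chartC) in
theorem exists_triv_chart (c : PC) :
    ∃ (t : 𝔓.Triv) (x : Proj (D.𝒮h.deg t.V t.hV)), RelProj.emb pC chartC t.V t.hV x = c := by
  obtain ⟨t, ht⟩ := 𝔓.exists_triv (pC c)
  obtain ⟨x, hx⟩ := K37.ProjBase.exists_of_mem pC chartC t.V t.hV c ht
  exact ⟨t, x, hx⟩

include hPC hPC' in
theorem exists_mor : ∃ Φ : PC ⟶ PC', ∀ t : 𝔓.Triv,
    RelProj.emb pC chartC t.V t.hV ≫ Φ = mor D D' 𝔓 pC' chartC' t := by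
  refine K40.GlueHom.exists_glue (fun t : 𝔓.Triv => Proj (D.𝒮h.deg t.V t.hV))
    (fun t => RelProj.emb pC chartC t.V t.hV) (mor D D' 𝔓 pC' chartC') (fun c => ?_) (fun a b c ha hb => ?_)
  · obtain ⟨t, x, hx⟩ := exists_triv_chart D 𝔓 pC chartC c
    exact ⟨t, x, hx⟩
  · obtain ⟨x, hx⟩ := ha
    obtain ⟨y, hy⟩ := hb
    have hxa : pC c ∈ a.V := by rw [← hx]; exact K37.ProjBase.emb_mem pC chartC a.V a.hV x
    have hxb : pC c ∈ b.V := by rw [← hy]; exact K37.ProjBase.emb_mem pC chartC b.V b.hV y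
    obtain ⟨f, g, e, hp⟩ := exists_basicOpen_le_affine_inter a.hV b.hV (pC c) ⟨hxa, hxb⟩
    have hW : IsAffineOpen (Y.basicOpen f) := a.hV.basicOpen f
    have iV : Y.basicOpen f ≤ b.V := e ▸ Y.basicOpen_le g
    obtain ⟨w, hw⟩ := K37.ProjBase.exists_of_mem pC chartC (Y.basicOpen f) hW c hp
    exact ⟨a.restrict hW (Y.basicOpen_le f), ⟨w, hw⟩,
      refines D D' 𝔓 hPC hPC' a (a.restrict hW (Y.basicOpen_le f)) f rfl (Y.basicOpen_le f),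
      refines D D' 𝔓 hPC hPC' b (a.restrict hW (Y.basicOpen_le f)) g e.symm iV⟩

theorem comp_id {Φ : PC ⟶ PC'} {Ψ : PC' ⟶ PC}
    (hΦ : ∀ t : 𝔓.Triv, RelProj.emb pC chartC t.V t.hV ≫ Φ = mor D D' 𝔓 pC' chartC' t)
    (hΨ : ∀ t : 𝔓.symm.Triv, RelProj.emb pC' chartC' t.V t.hV ≫ Ψ = mor D' D 𝔓.symm pC chartC t) :
    Φ ≫ Ψ = 𝟙 PC := by
  apply K40.GlueHom.hom_ext_local
  intro c
  obtain ⟨t, x, hx⟩ := exists_triv_chart D 𝔓 pC chartC c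
  refine ⟨_, RelProj.emb pC chartC t.V t.hV, inferInstance, ⟨x, hx⟩, ?_⟩
  have h1 := hΨ t.symm
  have h2 : RelProj.emb pC' chartC' t.V t.hV ≫ Ψ = Proj.map (σi D D' 𝔓 t) (σ_irr D' D 𝔓.symm t.symm) ≫
      RelProj.emb pC chartC t.V t.hV := h1
  have h3 : Proj.map (σ D D' 𝔓 t) (σ_irr D D' 𝔓 t) ≫ Proj.map (σi D D' 𝔓 t) (σ_irr D' D 𝔓.symm t.symm) = 𝟙 _ := by
    rw [← Proj.map_comp, ← Proj.map_id]
    exact K37.ProjRing.map_congr (GradedRingHom.ext (fun y => σ_σi D D' 𝔓 t y)) _ _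
  have h4 : Proj.map (σ D D' 𝔓 t) (σ_irr D D' 𝔓 t) ≫ RelProj.emb pC' chartC' t.V t.hV ≫ Ψ =
      RelProj.emb pC chartC t.V t.hV :=
    (congrArg (fun q => Proj.map (σ D D' 𝔓 t) (σ_irr D D' 𝔓 t) ≫ q) h2).trans
      (((Category.assoc _ _ _).symm.trans (congrArg (fun q => q ≫ RelProj.emb pC chartC t.V t.hV) h3)).trans
        (Category.id_comp _))
  rw [reassoc_of% (hΦ t), mor, Category.assoc, h4, Category.comp_id]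

include hPC hPC' in
theorem comp_p {Φ : PC ⟶ PC'}
    (hΦ : ∀ t : 𝔓.Triv, RelProj.emb pC chartC t.V t.hV ≫ Φ = mor D D' 𝔓 pC' chartC' t) : Φ ≫ pC' = pC := by
  apply K40.GlueHom.hom_ext_local
  intro c
  obtain ⟨t, x, hx⟩ := exists_triv_chart D 𝔓 pC chartC c
  refine ⟨_, RelProj.emb pC chartC t.V t.hV, inferInstance, ⟨x, hx⟩, ?_⟩
  have h1 := K37.ProjRing.map_toSpecZero (σ D D' 𝔓 t) (σ_irr D D' 𝔓 t)
  have h2 : D'.𝒮h.strZero t.V t.hV ≫ CommRingCat.ofHom (K37.ProjRing.zeroHom (σ D D' 𝔓 t)) = D.𝒮h.strZero t.V t.hV := by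
    ext r
    exact σ_str D D' 𝔓 t r
  rw [reassoc_of% (hΦ t), mor, Category.assoc, K37.ProjBase.emb_p hPC', K37.ProjBase.emb_p hPC, reassoc_of% h1,
    ← Spec.map_comp_assoc, h2]

theorem mem_domOpen_iff_T {t : 𝔓.Triv} (x : Proj (D.𝒮h.deg t.V t.hV)) :
    x ∈ RelCone.domOpen (RelProj.gradedHomAt D.ι D.hz.graded t.V t.hV) ↔ D.T t.hV t.e ∉ x.asHomogeneousIdeal := by
  rw [K42.DomQ.mem_domOpen_iff]
  constructor
  · rintro ⟨d, hd, f, hf, hfx⟩ hT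
    apply hfx
    have hl : K41.LineRing.IsLine (D.𝒮.deg t.V t.hV) (str D.𝒮 t.V) (jS D.j t.e) :=
      K41.LineRing.IsLine.of_bijective (D.hS.2 t.V t.hV t.e) (fun r => D.𝒮.str_mem t.V t.hV r)
        (bijT D.hLq D.hS t.hV (𝔓.gen t.rel))
    obtain ⟨r, rfl⟩ := hl.surj d f hf
    obtain ⟨k, rfl⟩ := Nat.exists_eq_succ_of_ne_zero hd.ne'
    rw [map_mul, map_pow, pow_succ, ← mul_assoc]
    exact Ideal.mul_mem_left _ _ hT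
  · intro h
    exact ⟨1, one_pos, jS D.j t.e, D.hS.2 t.V t.hV t.e, h⟩

theorem mor_apply (t : 𝔓.Triv) (x : Proj (D.𝒮h.deg t.V t.hV)) : mor D D' 𝔓 pC' chartC' t x =
    RelProj.emb pC' chartC' t.V t.hV (Proj.map (σ D D' 𝔓 t) (σ_irr D D' 𝔓 t) x) := by
  rw [mor, Scheme.Hom.comp_apply]

include hPC hPC' in
theorem iff₁ {aug : D.𝒮.toQCAlg ⟶ RelSpec.QCAlg.unit Y} {ε : Y ⟶ D.𝒮.toQCAlg.spec}
    (hε : RelCone.IsVertex D.𝒮 aug ε) {i : D.𝒮.toQCAlg.spec ⟶ PC} (hi : RelCone.IsConeImm D.𝒮 D.hz pC chartC i)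
    (h0 : RelCone.StrZeroBij D.𝒮) (haug : RelCone.IsAugmentation D.𝒮 aug)
    {i' : D'.𝒮.toQCAlg.spec ⟶ PC'} (hi' : RelCone.IsConeImm D'.𝒮 D'.hz pC' chartC' i')
    {Φ : PC ⟶ PC'}
    (hΦ : ∀ t : 𝔓.Triv, RelProj.emb pC chartC t.V t.hV ≫ Φ = mor D D' 𝔓 pC' chartC' t) (c : PC) :
    c ∈ Set.range (ε ≫ i) ↔ Φ c ∉ Set.range i' := by
  obtain ⟨t, x, rfl⟩ := exists_triv_chart D 𝔓 pC chartC c
  rw [K37.ConeProj2.emb_mem_range_iff D.hz hPC hε hi h0 haug, mem_domOpen_iff_T, ← Scheme.Hom.comp_apply, hΦ,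
    mor_apply, K37.ConeProj.emb_mem_range_i_iff D'.hz hPC' hi', not_not, not_not]
  have h : σ D D' 𝔓 t (D'.zV t.V) = D.T t.hV t.e := σ_z D D' 𝔓 t
  change _ ↔ σ D D' 𝔓 t (D'.zV t.V) ∈ x.asHomogeneousIdeal
  rw [h]

include hPC hPC' in
theorem iff₂ {i : D.𝒮.toQCAlg.spec ⟶ PC} (hi : RelCone.IsConeImm D.𝒮 D.hz pC chartC i)
    {aug' : D'.𝒮.toQCAlg ⟶ RelSpec.QCAlg.unit Y} {ε' : Y ⟶ D'.𝒮.toQCAlg.spec}
    (hε' : RelCone.IsVertex D'.𝒮 aug' ε')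
    {i' : D'.𝒮.toQCAlg.spec ⟶ PC'} (hi' : RelCone.IsConeImm D'.𝒮 D'.hz pC' chartC' i')
    (h0' : RelCone.StrZeroBij D'.𝒮) (haug' : RelCone.IsAugmentation D'.𝒮 aug')
    {Φ : PC ⟶ PC'}
    (hΦ : ∀ t : 𝔓.Triv, RelProj.emb pC chartC t.V t.hV ≫ Φ = mor D D' 𝔓 pC' chartC' t) (c : PC) :
    c ∉ Set.range i ↔ Φ c ∈ Set.range (ε' ≫ i') := by
  obtain ⟨t, x, rfl⟩ := exists_triv_chart D 𝔓 pC chartC c
  rw [K37.ConeProj.emb_mem_range_i_iff D.hz hPC hi, ← Scheme.Hom.comp_apply, hΦ, mor_apply,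
    K37.ConeProj2.emb_mem_range_iff D'.hz hPC' hε' hi' h0' haug', not_not]
  have h1 := mem_domOpen_iff_T D' 𝔓.symm (t := t.symm) (Proj.map (σ D D' 𝔓 t) (σ_irr D D' 𝔓 t) x)
  have h : σ D D' 𝔓 t (D'.T t.hV t.e') = D.zV t.V := σ_T D D' 𝔓 t
  refine Iff.trans ?_ (not_congr h1).symm
  rw [not_not]
  change _ ↔ σ D D' 𝔓 t (D'.T t.hV t.e') ∈ x.asHomogeneousIdeal
  rw [h]

end glue

/-- **EGA II**: `Ĉ(L) ≅ Ĉ(L')` exchanging the zero section and the locus at infinity. -/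
theorem main {PC PC' : Scheme.{u}} (hL : PicF.IsInvertible L) (hL' : PicF.IsInvertible L')
    (hLL' : Nonempty (CohB1.tensorMod L L' ≅ Coh.structureModule Y))
    (h0 : RelCone.StrZeroBij D.𝒮) (pC : PC ⟶ Y)
    (chartC : ∀ (U : Y.Opens) (hU : IsAffineOpen U), (((pC ⁻¹ᵁ U : PC.Opens) : Scheme.{u}) ≅ Proj (D.𝒮h.deg U hU)))
    (hPC : RelProj.IsRelProj D.𝒮h pC chartC)
    (aug : D.𝒮.toQCAlg ⟶ RelSpec.QCAlg.unit Y) (haug : RelCone.IsAugmentation D.𝒮 aug)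
    (ε : Y ⟶ D.𝒮.toQCAlg.spec) (hε : RelCone.IsVertex D.𝒮 aug ε)
    (i : D.𝒮.toQCAlg.spec ⟶ PC) (hi : RelCone.IsConeImm D.𝒮 D.hz pC chartC i)
    (h0' : RelCone.StrZeroBij D'.𝒮) (pC' : PC' ⟶ Y)
    (chartC' : ∀ (U : Y.Opens) (hU : IsAffineOpen U), (((pC' ⁻¹ᵁ U : PC'.Opens) : Scheme.{u}) ≅ Proj (D'.𝒮h.deg U hU)))
    (hPC' : RelProj.IsRelProj D'.𝒮h pC' chartC')
    (aug' : D'.𝒮.toQCAlg ⟶ RelSpec.QCAlg.unit Y) (haug' : RelCone.IsAugmentation D'.𝒮 aug')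
    (ε' : Y ⟶ D'.𝒮.toQCAlg.spec) (hε' : RelCone.IsVertex D'.𝒮 aug' ε')
    (i' : D'.𝒮.toQCAlg.spec ⟶ PC') (hi' : RelCone.IsConeImm D'.𝒮 D'.hz pC' chartC' i') :
    ∃ Φ : PC ≅ PC', Φ.hom ≫ pC' = pC ∧
      Φ.hom.base '' Set.range (ε ≫ i).base = (Set.range i'.base)ᶜ ∧
        Φ.hom.base '' (Set.range i.base)ᶜ = Set.range (ε' ≫ i').base := by
  obtain ⟨θ⟩ := hLL'
  let 𝔓 : Pairing L L' := LinePair.ofIso θ.hom hL hL'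
  obtain ⟨Φ, hΦ⟩ := exists_mor D D' 𝔓 hPC hPC'
  obtain ⟨Ψ, hΨ⟩ := exists_mor D' D 𝔓.symm hPC' hPC
  have e1 : Φ ≫ Ψ = 𝟙 PC := comp_id D D' 𝔓 hΦ hΨ
  have e2 : Ψ ≫ Φ = 𝟙 PC' := comp_id D' D 𝔓.symm hΨ (fun t => hΦ t)
  have hsurj : ∀ c' : PC', ∃ c : PC, Φ c = c' := fun c' => ⟨Ψ c', by
    rw [← Scheme.Hom.comp_apply, e2]; rfl⟩
  refine ⟨⟨Φ, Ψ, e1, e2⟩, comp_p D D' 𝔓 hPC hPC' hΦ, ?_, ?_⟩
  · ext c'
    obtain ⟨c, rfl⟩ := hsurj c'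
    constructor
    · rintro ⟨b, hb, hbc⟩
      rw [← hbc]
      exact (iff₁ D D' 𝔓 hPC hPC' hε hi h0 haug hi' hΦ b).mp hb
    · intro h
      exact ⟨c, (iff₁ D D' 𝔓 hPC hPC' hε hi h0 haug hi' hΦ c).mpr h, rfl⟩
  · ext c'
    obtain ⟨c, rfl⟩ := hsurj c'
    constructor
    · rintro ⟨b, hb, hbc⟩
      rw [← hbc]
      exact (iff₂ D D' 𝔓 hPC hPC' hi hε' hi' h0' haug' hΦ b).mp hb
    · intro h
      exact ⟨c, (iff₂ D D' 𝔓 hPC hPC' hi hε' hi' h0' haug' hΦ c).mpr h, rfl⟩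

end K38.ConeSwap
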