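import Groth.Agent.FormalB.GlueHom
import Groth.Agent.Fdesc.QCohStalk
import Groth.Prelude.Def_RelSpec2

/-!
# `AMod.dirImg` along an affine morphism is fully faithful on quasi-coherent modules

`map_bijective`: for `f : X ⟶ S` affine, `F` quasi-coherent and `G` arbitrary, `Hom(F, G) → Hom(f_*F, f_*G)` (over
`f_*O_X`) is bijective.
-/

set_option autoImplicit false
universe u
open CategoryTheory CategoryTheory.Limits AlgebraicGeometry Opposite TopologicalSpace

namespace K38.Full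

open Groth.Agent.FormalB.GlueHom

noncomputable section

variable {X S : Scheme.{u}} (f : X ⟶ S)

/-- restriction of functions -/
abbrev rO {V W : X.Opens} (h : W ≤ V) : Γ(X, V) →+* Γ(X, W) := (X.presheaf.map (homOfLE h).op).hom

theorem rO_rO {V W T : X.Opens} (h : W ≤ V) (h' : T ≤ W) (a : Γ(X, V)) : rO h' (rO h a) = rO (h'.trans h) a := by
  simp only [rO]
  rw [← CommRingCat.comp_apply, ← Functor.map_comp]
  rfl

theorem res_smul' (M : X.Modules) {V W : X.Opens} (h : W ≤ V) (c : Γ(X, V)) (s : Γ(M, V)) :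
    res M h (c • s) = rO h c • res M h s := res_smul M h c s

theorem isUnit_rO_basicOpen {V : X.Opens} (a : Γ(X, V)) {W : X.Opens} (hW : W ≤ X.basicOpen a) :
    IsUnit (rO (hW.trans (X.basicOpen_le a)) a) := by
  have h1 : IsUnit (rO (X.basicOpen_le a) a) := RingedSpace.isUnit_res_basicOpen _ a
  have h2 := h1.map (rO hW)
  rwa [rO_rO] at h2

theorem exists_nhd [IsAffineHom f] (V : X.Opens) (U₀ : S.Opens) (x : X) (hx : x ∈ V) (hx₀ : f x ∈ U₀) :
    ∃ (U : S.Opens) (_ : IsAffineOpen U) (_ : U ≤ U₀) (a : Γ(X, f ⁻¹ᵁ U)),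
      x ∈ X.basicOpen a ∧ X.basicOpen a ≤ V := by
  obtain ⟨_, ⟨U, hU, rfl⟩, hxU, hUU⟩ :=
    S.isBasis_affineOpens.exists_subset_of_mem_open hx₀ U₀.2
  have hU' : IsAffineOpen (f ⁻¹ᵁ U) := hU.preimage f
  obtain ⟨a, ha, hxa⟩ := hU'.exists_basicOpen_le ⟨x, hx⟩ hxU
  exact ⟨U, hU, hUU, a, hxa, ha⟩

variable {f}
variable {F G : X.Modules}

section psi

variable [QuasiCompact f] [QuasiSeparated f]
  (ψ : (AMod.dirImg f).obj F ⟶ (AMod.dirImg f).obj G)

/-- A morphism of `f_*O_X`-modules on sections. -/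
def psi (U : S.Opens) (m : Γ(F, f ⁻¹ᵁ U)) : Γ(G, f ⁻¹ᵁ U) := (ψ.val.app (op U)).hom m

theorem psi_add (U : S.Opens) (m m' : Γ(F, f ⁻¹ᵁ U)) : psi ψ U (m + m') = psi ψ U m + psi ψ U m' :=
  map_add (ψ.val.app (op U)).hom _ _

theorem psi_sub (U : S.Opens) (m m' : Γ(F, f ⁻¹ᵁ U)) : psi ψ U (m - m') = psi ψ U m - psi ψ U m' :=
  map_sub (ψ.val.app (op U)).hom _ _

theorem psi_zero (U : S.Opens) : psi ψ U 0 = 0 :=
  map_zero (ψ.val.app (op U)).hom

theorem psi_smul (U : S.Opens) (c : Γ(X, f ⁻¹ᵁ U)) (m : Γ(F, f ⁻¹ᵁ U)) : psi ψ U (c • m) = c • psi ψ U m :=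
  (ψ.val.app (op U)).hom.map_smul
    (show (AMod.ringSheaf (RelSpec.QCAlg.directImage f)).obj.obj (op U) from c) m

theorem psi_res {U U' : S.Opens} (h : U' ≤ U) (m : Γ(F, f ⁻¹ᵁ U)) :
    psi ψ U' (res F (f.preimage_mono h) m) = res G (f.preimage_mono h) (psi ψ U m) := by
  have := ψ.val.naturality (homOfLE h).op
  exact congrArg (fun t => t.hom m) this

end psi

variable [IsAffineHom f] (ψ : (AMod.dirImg f).obj F ⟶ (AMod.dirImg f).obj G)

theorem psi_res_eq_zero (hF : Coh.IsQCoh F) (U : S.Opens) (e : Γ(F, f ⁻¹ᵁ U)) {W : X.Opens} (hW : W ≤ f ⁻¹ᵁ U)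
    (he : res F hW e = 0) : res G hW (psi ψ U e) = 0 := by
  refine eq_of_local G fun x hx => ?_
  obtain ⟨U', hU', hUU, a, hxa, ha⟩ := exists_nhd f W U x hx (hW hx)
  refine ⟨X.basicOpen a, ha, hxa, ?_⟩
  rw [res_zero, res_res]
  obtain ⟨n, hn⟩ := Groth.Agent.Fdesc.QCohStalk.exists_pow_smul_eq_zero F (hU'.preimage f) hF a
    (res F (f.preimage_mono hUU) e) (by
      change res F (X.basicOpen_le a) (res F (f.preimage_mono hUU) e) = 0
      rw [res_res]
      have := congrArg (res F ha) he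
      rwa [res_res, res_zero] at this)
  have h1 := congrArg (psi ψ U') hn
  rw [psi_smul, psi_zero, psi_res ψ hUU] at h1
  have h2 := congrArg (res G (X.basicOpen_le a)) h1
  rw [res_smul', res_zero, res_res] at h2
  have hu : IsUnit (rO (X.basicOpen_le a) (a ^ n)) := by
    rw [map_pow]; exact (isUnit_rO_basicOpen a le_rfl).pow n
  exact (IsUnit.smul_eq_zero hu).mp h2

/-- cross-multiplication -/
theorem psi_cross (hF : Coh.IsQCoh F) (U U' : S.Opens) {W : X.Opens} (hW : W ≤ f ⁻¹ᵁ U) (hW' : W ≤ f ⁻¹ᵁ U')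
    (a : Γ(X, f ⁻¹ᵁ U)) (m : Γ(F, f ⁻¹ᵁ U)) (a' : Γ(X, f ⁻¹ᵁ U')) (m' : Γ(F, f ⁻¹ᵁ U'))
    (h : rO hW' a' • res F hW m = rO hW a • res F hW' m') :
    rO hW' a' • res G hW (psi ψ U m) = rO hW a • res G hW' (psi ψ U' m') := by
  have hU : U ⊓ U' ≤ U := inf_le_left
  have hU' : U ⊓ U' ≤ U' := inf_le_right
  have hW'' : W ≤ f ⁻¹ᵁ (U ⊓ U') := fun x hx => ⟨hW hx, hW' hx⟩
  let e : Γ(F, f ⁻¹ᵁ (U ⊓ U')) := rO (f.preimage_mono hU') a' • res F (f.preimage_mono hU) m -
    rO (f.preimage_mono hU) a • res F (f.preimage_mono hU') m'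
  have he : res F hW'' e = 0 := by
    simp only [e]
    rw [res_sub, res_smul', res_smul', res_res, res_res]
    rw [rO_rO, rO_rO, h, sub_self]
  have h1 := psi_res_eq_zero ψ hF _ e hW'' he
  simp only [e] at h1
  rw [psi_sub, psi_smul, psi_smul, psi_res ψ hU, psi_res ψ hU', res_sub, res_smul', res_smul', res_res, res_res] at h1
  rw [rO_rO, rO_rO] at h1
  exact sub_eq_zero.mp h1

/-- The relation "`s = m / a` and `t = ψ(m) / a`". -/
def Rel (V : X.Opens) (s : Γ(F, V)) (t : Γ(G, V)) : Prop :=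
  ∃ (U : S.Opens) (hV : V ≤ f ⁻¹ᵁ U) (a : Γ(X, f ⁻¹ᵁ U)) (m : Γ(F, f ⁻¹ᵁ U)),
    IsUnit (rO hV a) ∧ res F hV m = rO hV a • s ∧ res G hV (psi ψ U m) = rO hV a • t

theorem exists_hom (hF : Coh.IsQCoh F) :
    ∃ φ : F ⟶ G, ∀ (V : X.Opens) (s : Γ(F, V)) (t : Γ(G, V)), Rel ψ V s t → φ.app V s = t := by
  refine exists_hom_of_rel F G (Rel ψ) ?_ ?_ ?_ ?_ ?_
  · -- existence
    intro V s x hx
    obtain ⟨U, hU, -, a, hxa, ha⟩ := exists_nhd f V ⊤ x hx trivial
    obtain ⟨n, m, hm⟩ := Groth.Agent.Fdesc.QCohStalk.exists_map_eq_pow_smul F (hU.preimage f) hF a (res F ha s)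
    have hu : IsUnit (rO (X.basicOpen_le a) (a ^ n)) := by
      rw [map_pow]; exact (isUnit_rO_basicOpen a le_rfl).pow n
    obtain ⟨u, hu'⟩ := hu
    refine ⟨X.basicOpen a, ha, (↑u⁻¹ : Γ(X, X.basicOpen a)) • res G (X.basicOpen_le a) (psi ψ U m), hxa,
      U, X.basicOpen_le a, a ^ n, m, ?_, ?_, ?_⟩
    · rw [← hu']; exact u.isUnit
    · change res F (X.basicOpen_le a) m = _
      rw [map_pow]
      exact hm
    · rw [← hu', smul_smul, Units.mul_inv, one_smul]
  · -- uniqueness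
    rintro V s t t' ⟨U, hV, a, m, hu, h1, h2⟩ ⟨U', hV', a', m', hu', h1', h2'⟩
    have h3 := psi_cross ψ hF U U' hV hV' a m a' m' (by rw [h1, h1', smul_smul, smul_smul, mul_comm])
    rw [h2, h2', smul_smul, smul_smul, mul_comm] at h3
    exact (IsUnit.smul_left_cancel (hu.mul hu')).mp h3
  · -- restriction
    rintro U₀ V h s t ⟨U, hV, a, m, hu, h1, h2⟩
    refine ⟨U, h.trans hV, a, m, ?_, ?_, ?_⟩
    · have := hu.map (rO h)
      rwa [rO_rO] at this
    · have := congrArg (res F h) h1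
      rw [res_res, res_smul'] at this
      rw [this]
      rw [rO_rO]
    · have := congrArg (res G h) h2
      rw [res_res, res_smul'] at this
      rw [this]
      rw [rO_rO]
  · -- addition
    rintro V s s' t t' ⟨U, hV, a, m, hu, h1, h2⟩ ⟨U', hV', a', m', hu', h1', h2'⟩
    have hU : U ⊓ U' ≤ U := inf_le_left
    have hU' : U ⊓ U' ≤ U' := inf_le_right
    have hV'' : V ≤ f ⁻¹ᵁ (U ⊓ U') := fun x hx => ⟨hV hx, hV' hx⟩
    refine ⟨U ⊓ U', hV'', rO (f.preimage_mono hU) a * rO (f.preimage_mono hU') a',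
      rO (f.preimage_mono hU') a' • res F (f.preimage_mono hU) m +
        rO (f.preimage_mono hU) a • res F (f.preimage_mono hU') m', ?_, ?_, ?_⟩
    · rw [map_mul, rO_rO, rO_rO]; exact hu.mul hu'
    · rw [res_add, res_smul', res_smul', res_res, res_res, h1, h1', map_mul, rO_rO, rO_rO]
      rw [smul_smul, smul_smul, smul_add, mul_comm (rO hV' a')]
    · rw [psi_add, psi_smul, psi_smul, psi_res ψ hU, psi_res ψ hU', res_add, res_smul', res_smul', res_res, res_res, h2, h2',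
        map_mul, rO_rO, rO_rO]
      rw [smul_smul, smul_smul, smul_add, mul_comm (rO hV' a')]
  · -- scalars
    rintro V c s t ⟨U, hV, a, m, hu, h1, h2⟩ x hx
    obtain ⟨U', hU', hUU, b, hxb, hb⟩ := exists_nhd f V U x hx (hV hx)
    have hloc := (hU'.preimage f).isLocalization_basicOpen b
    obtain ⟨⟨c₁, ⟨_, k, rfl⟩⟩, hc⟩ := IsLocalization.surj (Submonoid.powers b) (rO hb c)
    refine ⟨X.basicOpen b, hb, hxb, U', X.basicOpen_le b, rO (f.preimage_mono hUU) a * b ^ k,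
      c₁ • res F (f.preimage_mono hUU) m, ?_, ?_, ?_⟩
    · rw [map_mul, rO_rO, map_pow]
      refine IsUnit.mul ?_ ((isUnit_rO_basicOpen b le_rfl).pow k)
      have := hu.map (rO hb)
      rwa [rO_rO] at this
    · have h3 := congrArg (res F hb) h1
      rw [res_res, res_smul'] at h3
      have hc' : rO hb c * rO (X.basicOpen_le b) (b ^ k) = rO (X.basicOpen_le b) c₁ := hc
      rw [rO_rO] at h3
      rw [res_smul', res_res, map_mul, rO_rO, res_smul', h3, smul_smul, smul_smul, ← hc']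
      congr 1
      ring
    · have h3 := congrArg (res G hb) h2
      rw [res_res, res_smul'] at h3
      have hc' : rO hb c * rO (X.basicOpen_le b) (b ^ k) = rO (X.basicOpen_le b) c₁ := hc
      rw [rO_rO] at h3
      rw [psi_smul, psi_res ψ hUU, res_smul', res_res, map_mul, rO_rO, res_smul', h3, smul_smul, smul_smul, ← hc']
      congr 1
      ring

theorem full (hF : Coh.IsQCoh F) : ∃ φ : F ⟶ G, (AMod.dirImg f).map φ = ψ := by
  obtain ⟨φ, hφ⟩ := exists_hom ψ hF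
  refine ⟨φ, ?_⟩
  apply SheafOfModules.hom_ext
  apply PresheafOfModules.hom_ext
  intro U
  ext m
  change φ.app (f ⁻¹ᵁ U.unop) m = psi ψ U.unop m
  refine hφ _ _ _ ⟨U.unop, le_rfl, 1, m, ?_, ?_, ?_⟩
  · rw [map_one]; exact isUnit_one
  · rw [map_one, one_smul, res_self]
  · rw [map_one, one_smul, res_self]

theorem map_bijective (hF : Coh.IsQCoh F) :
    Function.Bijective ((AMod.dirImg f).map : (F ⟶ G) → ((AMod.dirImg f).obj F ⟶ (AMod.dirImg f).obj G)) := by
  refine ⟨?_, fun ψ => full ψ hF⟩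
  intro φ φ' h
  -- compare on sections over small basic opens
  refine Scheme.Modules.hom_ext _ _ fun V => ?_
  ext s
  refine eq_of_local G fun x hx => ?_
  obtain ⟨U, hU, -, a, hxa, ha⟩ := exists_nhd f V ⊤ x hx trivial
  obtain ⟨n, m, hm⟩ := Groth.Agent.Fdesc.QCohStalk.exists_map_eq_pow_smul F (hU.preimage f) hF a (res F ha s)
  have hm' : res F (X.basicOpen_le a) m = rO (X.basicOpen_le a) (a ^ n) • res F ha s := by
    rw [map_pow]; exact hm
  have hu : IsUnit (rO (X.basicOpen_le a) (a ^ n)) := by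
    rw [map_pow]; exact (isUnit_rO_basicOpen a le_rfl).pow n
  refine ⟨X.basicOpen a, ha, hxa, ?_⟩
  rw [← app_res, ← app_res]
  refine (IsUnit.smul_left_cancel hu).mp ?_
  rw [← Scheme.Modules.Hom.app_smul, ← Scheme.Modules.Hom.app_smul, ← hm', app_res, app_res]
  congr 1
  exact congrArg (fun t : (AMod.dirImg f).obj F ⟶ (AMod.dirImg f).obj G => (t.val.app (op U)).hom m) h

end

end K38.Full
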