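import Groth.Agent.EGA2.K38.Colim
import Groth.Agent.EGA2.K38.DirImg
import Groth.Agent.EGA2.K38.Full
import Groth.Agent.Fdesc.PullbackSec
import Groth.Agent.PerfA.QCohSerre
import Groth.Agent.FormalA.PullbackQC
import Groth.Agent.Smoothlim.ModKer

/-!
# Quasi-coherent `f_*O_X`-modules are direct images (`f` affine)
-/

set_option autoImplicit false
set_option linter.style.haveILetI false
universe u
open CategoryTheory CategoryTheory.Limits AlgebraicGeometry Opposite TopologicalSpace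

namespace K38.Exist

open Groth.Agent.FormalB.GlueHom K38.Full Groth.Agent.Fdesc.PullbackSec

noncomputable section

variable {X S : Scheme.{u}} (f : X ⟶ S) [IsAffineHom f] (M : AMod (RelSpec.QCAlg.directImage f))

/-- the underlying O_S-module -/
abbrev N : S.Modules := (AMod.toOS (RelSpec.QCAlg.directImage f)).obj M

/-- sections of `M` over `U` -/
def MB (U : S.Opens) : Type u := Γ(N f M, U)

instance (U : S.Opens) : AddCommGroup (MB f M U) := inferInstanceAs (AddCommGroup Γ(N f M, U))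

instance (U : S.Opens) : Module Γ(X, f ⁻¹ᵁ U) (MB f M U) :=
  inferInstanceAs (Module ((AMod.ringSheaf (RelSpec.QCAlg.directImage f)).obj.obj (op U)) (M.val.obj (op U)))

/-- identity as an additive equivalence -/
def toMB (U : S.Opens) : Γ(N f M, U) ≃+ MB f M U := AddEquiv.refl _

theorem toMB_smul (U : S.Opens) (r : Γ(S, U)) (n : Γ(N f M, U)) :
    toMB f M U (r • n) = (f.app U).hom r • toMB f M U n := rfl

/-- restriction of sections of `M` -/
def resB {U V : S.Opens} (h : V ≤ U) (n : MB f M U) : MB f M V := toMB f M V (res (N f M) h ((toMB f M U).symm n))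

theorem resB_smul {U V : S.Opens} (h : V ≤ U) (b : Γ(X, f ⁻¹ᵁ U)) (n : MB f M U) :
    resB f M h (b • n) = rO (f.preimage_mono h) b • resB f M h n :=
  PresheafOfModules.map_smul M.val (homOfLE h).op b n

/-- the pull-back module -/
abbrev P : X.Modules := (Scheme.Modules.pullback f).obj (N f M)

variable {f M}

theorem isQCoh_P (hM : Coh.IsQCoh (N f M)) : Coh.IsQCoh (P f M) :=
  Groth.Agent.FormalA.PullbackQC.isQCoh_pullback f _ hM

/-- canonical section -/
def can (U : S.Opens) (n : Γ(N f M, U)) : Γ(P f M, f ⁻¹ᵁ U) :=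
  ((Scheme.Modules.pullbackPushforwardAdjunction f).unit.app (N f M)).app U n

theorem can_res {U V : S.Opens} (h : V ≤ U) (n : Γ(N f M, U)) :
    res (P f M) (f.preimage_mono h) (can U n) = can V (res (N f M) h n) :=
  (app_res ((Scheme.Modules.pullbackPushforwardAdjunction f).unit.app (N f M)) h n).symm

theorem pullSec_eq {U : S.Opens} (n : Γ(N f M, U)) :
    letI := secAlg f (le_refl (f ⁻¹ᵁ U))
    letI := secModule f (le_refl (f ⁻¹ᵁ U)) (P f M)
    pullSec f (le_refl (f ⁻¹ᵁ U)) (N f M) n = can U n := by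
  exact res_self (P f M) le_rfl _

theorem exists_ev (hM : Coh.IsQCoh (N f M)) {U : S.Opens} (hU : IsAffineOpen U) :
    ∃ e : Γ(P f M, f ⁻¹ᵁ U) →ₗ[Γ(X, f ⁻¹ᵁ U)] MB f M U, ∀ n, e (can U n) = toMB f M U n := by
  letI := secAlg f (le_refl (f ⁻¹ᵁ U))
  letI := secModule f (le_refl (f ⁻¹ᵁ U)) (P f M)
  haveI := isScalarTower_sec f (le_refl (f ⁻¹ᵁ U)) (P f M)
  have hb := isBaseChange_pullSec f (le_refl (f ⁻¹ᵁ U)) hU (hU.preimage f) (N f M) hM (isQCoh_P hM)
  letI : Module Γ(S, U) (MB f M U) := Module.compHom _ (f.appLE U _ (le_refl (f ⁻¹ᵁ U))).hom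
  haveI : IsScalarTower Γ(S, U) Γ(X, f ⁻¹ᵁ U) (MB f M U) := ⟨fun r a m => by
    rw [Algebra.smul_def, mul_smul]
    rfl⟩
  have happ : f.appLE U _ (le_refl (f ⁻¹ᵁ U)) = f.app U := Scheme.Hom.appLE_eq_app _
  let g : Γ(N f M, U) →ₗ[Γ(S, U)] MB f M U :=
    { toFun := toMB f M U
      map_add' := map_add _
      map_smul' := fun r n => by
        rw [toMB_smul, ← happ]
        rfl }
  refine ⟨hb.lift g, fun n => ?_⟩
  have h1 := hb.lift_eq g n
  rw [pullSec_eq] at h1
  exact h1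

theorem ev_ext (hM : Coh.IsQCoh (N f M)) {U : S.Opens} (hU : IsAffineOpen U) {T : Type*} [AddCommGroup T]
    [Module Γ(X, f ⁻¹ᵁ U) T] (e e' : Γ(P f M, f ⁻¹ᵁ U) →ₗ[Γ(X, f ⁻¹ᵁ U)] T)
    (h : ∀ n, e (can U n) = e' (can U n)) : e = e' := by
  letI := secAlg f (le_refl (f ⁻¹ᵁ U))
  letI := secModule f (le_refl (f ⁻¹ᵁ U)) (P f M)
  haveI := isScalarTower_sec f (le_refl (f ⁻¹ᵁ U)) (P f M)
  have hb := isBaseChange_pullSec f (le_refl (f ⁻¹ᵁ U)) hU (hU.preimage f) (N f M) hM (isQCoh_P hM)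
  refine hb.algHom_ext e e' fun n => ?_
  rw [pullSec_eq]
  exact h n

/-- evaluation over an affine open -/
def ev (hM : Coh.IsQCoh (N f M)) {U : S.Opens} (hU : IsAffineOpen U) :
    Γ(P f M, f ⁻¹ᵁ U) →ₗ[Γ(X, f ⁻¹ᵁ U)] MB f M U := (exists_ev hM hU).choose

theorem ev_can (hM : Coh.IsQCoh (N f M)) {U : S.Opens} (hU : IsAffineOpen U) (n : Γ(N f M, U)) :
    ev hM hU (can U n) = toMB f M U n := (exists_ev hM hU).choose_spec n

theorem resB_add {U V : S.Opens} (h : V ≤ U) (n n' : MB f M U) :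
    resB f M h (n + n') = resB f M h n + resB f M h n' := res_add (N f M) h _ _

theorem ev_res (hM : Coh.IsQCoh (N f M)) {U V : S.Opens} (hU : IsAffineOpen U) (hV : IsAffineOpen V) (h : V ≤ U)
    (s : Γ(P f M, f ⁻¹ᵁ U)) :
    ev hM hV (res (P f M) (f.preimage_mono h) s) = resB f M h (ev hM hU s) := by
  letI : Module Γ(X, f ⁻¹ᵁ U) (MB f M V) := Module.compHom _ (rO (f.preimage_mono h))
  let e : Γ(P f M, f ⁻¹ᵁ U) →ₗ[Γ(X, f ⁻¹ᵁ U)] MB f M V :=
    { toFun := fun s => ev hM hV (res (P f M) (f.preimage_mono h) s)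
      map_add' := fun s t => by rw [res_add, map_add]
      map_smul' := fun c s => by
        rw [res_smul', map_smul]
        rfl }
  let e' : Γ(P f M, f ⁻¹ᵁ U) →ₗ[Γ(X, f ⁻¹ᵁ U)] MB f M V :=
    { toFun := fun s => resB f M h (ev hM hU s)
      map_add' := fun s t => by rw [map_add, resB_add]
      map_smul' := fun c s => by
        rw [map_smul, resB_smul]
        rfl }
  have := ev_ext hM hU e e' fun n => by
    change ev hM hV (res (P f M) (f.preimage_mono h) (can U n)) = resB f M h (ev hM hU (can U n))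
    rw [can_res, ev_can, ev_can]
    rfl
  exact congrArg (fun t => t s) this

theorem exists_affine_nhd (V : S.Opens) (x : S) (hx : x ∈ V) :
    ∃ U : S.Opens, IsAffineOpen U ∧ x ∈ U ∧ U ≤ V := by
  obtain ⟨_, ⟨U, hU, rfl⟩, hxU, hUU⟩ := S.isBasis_affineOpens.exists_subset_of_mem_open hx V.2
  exact ⟨U, hU, hxU, hUU⟩

/-- the relation `t = ev s` -/
def Rel (hM : Coh.IsQCoh (N f M)) (V : S.Opens) (s : Γ((Scheme.Modules.pushforward f).obj (P f M), V))
    (t : Γ(N f M, V)) : Prop :=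
  ∀ (U : S.Opens) (hU : IsAffineOpen U) (h : U ≤ V),
    ev hM hU (res (P f M) (f.preimage_mono h) s) = toMB f M U (res (N f M) h t)

theorem exists_evHom (hM : Coh.IsQCoh (N f M)) :
    ∃ φ : (Scheme.Modules.pushforward f).obj (P f M) ⟶ N f M, ∀ (U : S.Opens) (hU : IsAffineOpen U)
      (s : Γ(P f M, f ⁻¹ᵁ U)), φ.app U s = (toMB f M U).symm (ev hM hU s) := by
  have key : ∀ (U : S.Opens) (hU : IsAffineOpen U) (s : Γ(P f M, f ⁻¹ᵁ U)),
      Rel hM U s ((toMB f M U).symm (ev hM hU s)) := by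
    intro U hU s U' hU' h
    rw [ev_res hM hU hU' h]
    rfl
  obtain ⟨φ, hφ⟩ := exists_hom_of_rel ((Scheme.Modules.pushforward f).obj (P f M)) (N f M) (Rel hM) (by
    intro V s x hx
    obtain ⟨U, hU, hxU, hUV⟩ := exists_affine_nhd V x hx
    exact ⟨U, hUV, _, hxU, key U hU _⟩) (by
    intro V s t t' h1 h2
    refine eq_of_local (N f M) fun x hx => ?_
    obtain ⟨U, hU, hxU, hUV⟩ := exists_affine_nhd V x hx
    exact ⟨U, hUV, hxU, ((h1 U hU hUV).symm.trans (h2 U hU hUV) :)⟩) (by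
    intro V W h s t h1 U hU hUW
    have := h1 U hU (hUW.trans h)
    rw [← res_res (P f M) (f.preimage_mono h) (f.preimage_mono hUW), ← res_res (N f M) h hUW] at this
    exact this) (by
    intro V s s' t t' h1 h2 U hU hUV
    rw [res_add, map_add, ← h1 U hU hUV, ← h2 U hU hUV, ← map_add, ← res_add]
    rfl) (by
    intro V c s t h1 x hx
    refine ⟨V, le_rfl, hx, ?_⟩
    rw [res_self, res_self]
    intro U hU hUV
    rw [res_smul (N f M) hUV c t, toMB_smul, ← h1 U hU hUV, ← map_smul]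
    congr 1
    have h2 := res_smul ((Scheme.Modules.pushforward f).obj (P f M)) hUV c s
    exact h2)
  exact ⟨φ, fun U hU s => hφ U s _ (key U hU s)⟩

theorem exact_app {P' P : X.Modules} (hP' : Coh.IsQCoh P') (hP : Coh.IsQCoh P) (u : P' ⟶ P) {V : X.Opens}
    (hV : IsAffineOpen V) (p : Γ(P, V)) (hp : (cokernel.π u).app V p = 0) : ∃ q, u.app V q = p := by
  have hK : Coh.IsQCoh (Abelian.image u) :=
    Groth.Agent.PerfA.QCohSerre.isQCoh_kernel _ hP (Groth.Agent.PerfA.QCohSerre.isQCoh_cokernel _ hP' hP)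
  obtain ⟨y, hy⟩ := Groth.Agent.Smoothlim.ModKer.exists_of_app_eq_zero (cokernel.π u) V p hp
  have h1 : Coh.IsQCoh P' := hP'
  obtain ⟨q, hq⟩ := Groth.Agent.FormalB.QcSect.surjective_app_of_epi (Abelian.factorThruImage u) hV y
  refine ⟨q, ?_⟩
  rw [← hy, ← hq]
  exact congrArg (fun t => (t.app V).hom q) (Abelian.image.fac u).symm

theorem epi_of_affine_surj {A A' : S.Modules} (φ : A ⟶ A') (h : ∀ U : S.Opens, IsAffineOpen U → Function.Surjective (φ.app U)) :
    Epi φ := Groth.Agent.FormalB.SysSect.epi_of_affine φ h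

theorem pull_ext {K : S.Modules} (hK : Coh.IsQCoh K) {U : S.Opens} (hU : IsAffineOpen U) {T : Type*} [AddCommGroup T]
    [Module Γ(X, f ⁻¹ᵁ U) T] (e e' : Γ((Scheme.Modules.pullback f).obj K, f ⁻¹ᵁ U) →ₗ[Γ(X, f ⁻¹ᵁ U)] T)
    (h : ∀ n, e (((Scheme.Modules.pullbackPushforwardAdjunction f).unit.app K).app U n) =
      e' (((Scheme.Modules.pullbackPushforwardAdjunction f).unit.app K).app U n)) : e = e' := by
  letI := secAlg f (le_refl (f ⁻¹ᵁ U))
  letI := secModule f (le_refl (f ⁻¹ᵁ U)) ((Scheme.Modules.pullback f).obj K)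
  haveI := isScalarTower_sec f (le_refl (f ⁻¹ᵁ U)) ((Scheme.Modules.pullback f).obj K)
  have hb := isBaseChange_pullSec f (le_refl (f ⁻¹ᵁ U)) hU (hU.preimage f) K hK
    (Groth.Agent.FormalA.PullbackQC.isQCoh_pullback f _ hK)
  refine hb.algHom_ext e e' fun n => ?_
  have : pullSec f (le_refl (f ⁻¹ᵁ U)) K n =
    ((Scheme.Modules.pullbackPushforwardAdjunction f).unit.app K).app U n :=
    res_self ((Scheme.Modules.pullback f).obj K) le_rfl _
  rw [this]
  exact h n

theorem app_eq_zero_of_affine {A A' : S.Modules} (φ : A ⟶ A')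
    (h : ∀ U : S.Opens, IsAffineOpen U → ∀ s : Γ(A, U), φ.app U s = 0) (U : S.Opens) (s : Γ(A, U)) :
    φ.app U s = 0 := by
  have h1 : ∀ x ∈ U, ∃ (V : S.Opens) (h : V ≤ U), x ∈ V ∧ res A' h (φ.app U s) = res A' h 0 := by
    intro x hx
    obtain ⟨V, hV, hxV, hVU⟩ := exists_affine_nhd U x hx
    refine ⟨V, hVU, hxV, ?_⟩
    rw [← app_res φ hVU, h V hV, res_zero]
  exact eq_of_local A' h1

theorem hom_eq_zero_of_affine {A A' : S.Modules} (φ : A ⟶ A')
    (h : ∀ U : S.Opens, IsAffineOpen U → ∀ s : Γ(A, U), φ.app U s = 0) : φ = 0 := by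
  apply Scheme.Modules.hom_ext
  intro U
  ext s
  exact app_eq_zero_of_affine φ h U s

theorem main_OS (hM : Coh.IsQCoh (N f M)) :
    ∃ (F : X.Modules) (_ : Coh.IsQCoh F) (θ : (Scheme.Modules.pushforward f).obj F ⟶ N f M), IsIso θ ∧
      ∀ (U : S.Opens), IsAffineOpen U → ∀ (b : Γ(X, f ⁻¹ᵁ U)) (s : Γ(F, f ⁻¹ᵁ U)),
        toMB f M U (θ.app U ((b • s : Γ(F, f ⁻¹ᵁ U)))) = b • toMB f M U (θ.app U s) := by
  obtain ⟨φ, hφ⟩ := exists_evHom hM
  have hφs : ∀ U : S.Opens, IsAffineOpen U → Function.Surjective (φ.app U) := by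
    intro U hU n
    exact ⟨can (f := f) (M := M) U n, (hφ U hU (can U n)).trans (congrArg (toMB f M U).symm (ev_can hM hU n))⟩
  haveI : Epi φ := epi_of_affine_surj φ hφs
  have hPq : Coh.IsQCoh (P f M) := isQCoh_P hM
  have hfP : Coh.IsQCoh ((Scheme.Modules.pushforward f).obj (P f M)) :=
    Groth.Agent.CohqA.AffPush.isQCoh_push f _ hPq
  have hK : Coh.IsQCoh (kernel φ) := Groth.Agent.PerfA.QCohSerre.isQCoh_kernel _ hfP hM
  let adj := Scheme.Modules.pullbackPushforwardAdjunction f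
  let P' := (Scheme.Modules.pullback f).obj (kernel φ)
  have hP' : Coh.IsQCoh P' := Groth.Agent.FormalA.PullbackQC.isQCoh_pullback f _ hK
  let u : P' ⟶ P f M := (adj.homEquiv _ _).symm (kernel.ι φ)
  have hu : adj.unit.app (kernel φ) ≫ (Scheme.Modules.pushforward f).map u = kernel.ι φ := by
    have := (adj.homEquiv _ _).apply_symm_apply (kernel.ι φ)
    rwa [Adjunction.homEquiv_unit] at this
  have hu' : ∀ (U : S.Opens) (k : Γ(kernel φ, U)), u.app (f ⁻¹ᵁ U) ((adj.unit.app (kernel φ)).app U k) =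
      (kernel.ι φ).app U k := fun U k => congrArg (fun t => (t.app U).hom k) hu
  -- `φ ∘ u = 0` on affine sections
  have huφ : ∀ (U : S.Opens), IsAffineOpen U → ∀ q : Γ(P', f ⁻¹ᵁ U), φ.app U (u.app (f ⁻¹ᵁ U) q) = 0 := by
    intro U hU q
    let e : Γ(P', f ⁻¹ᵁ U) →ₗ[Γ(X, f ⁻¹ᵁ U)] MB f M U :=
      { toFun := fun q => ev hM hU (u.app (f ⁻¹ᵁ U) q)
        map_add' := fun s t => by rw [map_add, map_add]
        map_smul' := fun c s => by
          rw [Scheme.Modules.Hom.app_smul, map_smul]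
          rfl }
    have h0 := pull_ext (f := f) hK hU e 0 fun k => by
      change ev hM hU (u.app (f ⁻¹ᵁ U) ((adj.unit.app (kernel φ)).app U k)) = 0
      rw [hu']
      have h1 := hφ U hU ((kernel.ι φ).app U k)
      have h2 : φ.app U ((kernel.ι φ).app U k) = 0 :=
        congrArg (fun t => (t.app U).hom k) (kernel.condition φ)
      rw [h2] at h1
      exact ((toMB f M U).symm.map_eq_zero_iff.mp h1.symm)
    rw [hφ U hU]
    have h3 : ev hM hU (u.app (f ⁻¹ᵁ U) q) = 0 := congrArg (fun t => t q) h0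
    rw [h3]
    exact map_zero _
  let F := cokernel u
  have hF : Coh.IsQCoh F := Groth.Agent.PerfA.QCohSerre.isQCoh_cokernel _ hP' hPq
  let c : P f M ⟶ F := cokernel.π u
  haveI : Epi ((Scheme.Modules.pushforward f).map c) := K38.DirImg.epi_pushforward f hPq hF c
  have hcs : ∀ U : S.Opens, IsAffineOpen U → Function.Surjective (c.app (f ⁻¹ᵁ U)) := fun U hU =>
    haveI : Coh.IsQCoh F := hF
    Groth.Agent.FormalB.QcSect.surjective_app_of_epi c (hU.preimage f)
  have hker : ∀ (U : S.Opens), IsAffineOpen U → ∀ p : Γ(P f M, f ⁻¹ᵁ U), c.app (f ⁻¹ᵁ U) p = 0 → φ.app U p = 0 := by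
    intro U hU p hp
    obtain ⟨q, rfl⟩ := exact_app hP' hPq u (hU.preimage f) p hp
    exact huφ U hU q
  have hdesc : kernel.ι ((Scheme.Modules.pushforward f).map c) ≫ φ = 0 := by
    have h1 : ∀ V : S.Opens, IsAffineOpen V → ∀ k : Γ(kernel ((Scheme.Modules.pushforward f).map c), V),
        (kernel.ι ((Scheme.Modules.pushforward f).map c) ≫ φ).app V k = 0 := fun V hV k =>
      hker V hV ((kernel.ι ((Scheme.Modules.pushforward f).map c)).app V k)
      (congrArg (fun t => (t.app V).hom k) (kernel.condition ((Scheme.Modules.pushforward f).map c)))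
    have h2 := hom_eq_zero_of_affine (kernel.ι ((Scheme.Modules.pushforward f).map c) ≫ φ) h1
    exact h2
  let θ : (Scheme.Modules.pushforward f).obj F ⟶ N f M := Abelian.epiDesc ((Scheme.Modules.pushforward f).map c) φ hdesc
  have hθ : (Scheme.Modules.pushforward f).map c ≫ θ = φ := Abelian.comp_epiDesc _ _ _
  have hθ' : ∀ (U : S.Opens) (p : Γ(P f M, f ⁻¹ᵁ U)), θ.app U (c.app (f ⁻¹ᵁ U) p) = φ.app U p := fun U p =>
    congrArg (fun t => (t.app U).hom p) hθ
  refine ⟨F, hF, θ, ?_, ?_⟩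
  · refine K38.Colim.isIso_of_affine θ fun U => ?_
    have : Function.Bijective (θ.app U.1) := by
      refine ⟨?_, ?_⟩
      · rw [injective_iff_map_eq_zero]
        intro s hs
        obtain ⟨p, rfl⟩ := hcs U.1 U.2 s
        rw [hθ'] at hs
        obtain ⟨k, hk⟩ := Groth.Agent.Smoothlim.ModKer.exists_of_app_eq_zero φ U.1 p hs
        rw [← hk, ← hu']
        exact congrArg (fun t : P' ⟶ F => (t.app (f ⁻¹ᵁ U.1)).hom ((adj.unit.app (kernel φ)).app U.1 k))
          (cokernel.condition u)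
      · intro n
        obtain ⟨p, rfl⟩ := hφs U.1 U.2 n
        exact ⟨c.app (f ⁻¹ᵁ U.1) p, hθ' _ _⟩
    exact (ConcreteCategory.isIso_iff_bijective _).mpr this
  · intro U hU b s
    obtain ⟨p, rfl⟩ := hcs U hU s
    rw [← Scheme.Modules.Hom.app_smul, hθ', hθ', hφ U hU, hφ U hU, map_smul]
    rfl

/-- A morphism of the underlying `O_S`-modules which is `f_*O_X`-linear over affine opens is `f_*O_X`-linear. -/
theorem exists_lift {A A' : AMod (RelSpec.QCAlg.directImage f)} (φ : N f A ⟶ N f A')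
    (h : ∀ U : S.Opens, IsAffineOpen U → ∀ (b : Γ(X, f ⁻¹ᵁ U)) (s : MB f A U),
      toMB f A' U (φ.app U ((toMB f A U).symm (b • s))) = b • toMB f A' U (φ.app U ((toMB f A U).symm s))) :
    ∃ ψ : A ⟶ A', (AMod.toOS (RelSpec.QCAlg.directImage f)).map ψ = φ := by
  have key : ∀ (U : S.Opens) (b : Γ(X, f ⁻¹ᵁ U)) (s : MB f A U),
      toMB f A' U (φ.app U ((toMB f A U).symm (b • s))) = b • toMB f A' U (φ.app U ((toMB f A U).symm s)) := by
    intro U b s
    have h1 : ∀ x ∈ U, ∃ (V : S.Opens) (h : V ≤ U), x ∈ V ∧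
        res (N f A') h (φ.app U ((toMB f A U).symm (b • s))) =
          res (N f A') h ((toMB f A' U).symm (b • toMB f A' U (φ.app U ((toMB f A U).symm s)))) := by
      intro x hx
      obtain ⟨V, hV, hxV, hVU⟩ := exists_affine_nhd U x hx
      refine ⟨V, hVU, hxV, ?_⟩
      have e1 : res (N f A) hVU ((toMB f A U).symm (b • s)) =
          (toMB f A V).symm (rO (f.preimage_mono hVU) b • resB f A hVU s) := resB_smul f A hVU b s
      have e2 : res (N f A') hVU ((toMB f A' U).symm (b • toMB f A' U (φ.app U ((toMB f A U).symm s)))) =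
          (toMB f A' V).symm (rO (f.preimage_mono hVU) b • resB f A' hVU (toMB f A' U (φ.app U ((toMB f A U).symm s)))) :=
        resB_smul f A' hVU b _
      rw [← app_res φ hVU, e1, e2]
      have e3 := h V hV (rO (f.preimage_mono hVU) b) (resB f A hVU s)
      have e4 : toMB f A' V (φ.app V ((toMB f A V).symm (resB f A hVU s))) =
          resB f A' hVU (toMB f A' U (φ.app U ((toMB f A U).symm s))) := congrArg (toMB f A' V)
            (app_res φ hVU ((toMB f A U).symm s))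
      rw [e4] at e3
      exact e3
    exact eq_of_local (N f A') h1
  refine ⟨⟨PresheafOfModules.homMk φ.mapPresheaf fun U r m => key U.unop r m⟩, ?_⟩
  rfl

theorem exists_iso (hM : Coh.IsQCoh (N f M)) :
    ∃ F : X.Modules, Coh.IsQCoh F ∧ Nonempty ((AMod.dirImg f).obj F ≅ M) := by
  obtain ⟨F, hF, θ, hθ, hlin⟩ := main_OS hM
  obtain ⟨ψ, hψ⟩ := exists_lift (f := f) (A := (AMod.dirImg f).obj F) (A' := M) θ hlin
  refine ⟨F, hF, ⟨?_⟩⟩
  have h1 : IsIso ((AMod.toOS (RelSpec.QCAlg.directImage f)).map ψ) := by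
    rw [hψ]
    exact hθ
  have h2 : IsIso ((SheafOfModules.toSheaf.{u} S.ringCatSheaf).map
      ((AMod.toOS (RelSpec.QCAlg.directImage f)).map ψ)) :=
    @Functor.map_isIso _ _ _ _ _ _ (SheafOfModules.toSheaf.{u} S.ringCatSheaf) _ h1
  have h3 : IsIso ((SheafOfModules.toSheaf.{u} (AMod.ringSheaf (RelSpec.QCAlg.directImage f))).map ψ) := h2
  haveI : IsIso ψ := isIso_of_reflects_iso ψ (SheafOfModules.toSheaf.{u} (AMod.ringSheaf (RelSpec.QCAlg.directImage f)))
  exact asIso ψ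

end

end K38.Exist
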