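import Groth.Agent.Ega1.QAlgFP
import Groth.Agent.Ega1.QCohFinite
import Groth.Agent.Ega1.QCohOfLoc
import Groth.Agent.CohqA.AffPush
import Groth.Agent.FormalB.QcSect
import Groth.Agent.Fdesc.StructMod
import Groth.Prelude.Def_RelSpec2

/-!
# Finite type for modules over a quasi-coherent algebra and direct images along affine morphisms
-/

set_option autoImplicit false
universe u
open CategoryTheory CategoryTheory.Limits AlgebraicGeometry Opposite TopologicalSpace

namespace K38.FT

open Groth.Agent.Ega1 Groth.Agent.Ega1.QAlg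

section general

variable {X : Scheme.{u}} {B : Sheaf (Opens.grothendieckTopology X) RingCat.{u}}
  (φ : X.ringCatSheaf ⟶ B)

theorem surjective_of_resSpec_app_top {U : X.Opens} (hU : IsAffineOpen U)
    {G G' : SheafOfModules.{u} (B.over U)} (π : G ⟶ G')
    (h : Function.Surjective (((resSpec φ hU).map π).app ⊤)) :
    Function.Surjective (π.val.app (tO U)) := by
  let W : Over U := (Opens.overEquivalence U).inverse.obj (hU.isoSpec.inv ''ᵁ ⊤)
  change Function.Surjective (π.val.app (op W)) at h
  have hW : W.left = U := by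
    ext x
    simp only [W]
    constructor
    · rintro ⟨y, -, rfl⟩
      exact y.2
    · intro hx
      exact ⟨⟨x, hx⟩, by simp; trivial, rfl⟩
  have e : W ≅ Over.mk (𝟙 U) := Over.isoMk (eqToIso hW) (Subsingleton.elim _ _)
  intro y
  obtain ⟨x, hx⟩ := h (G'.val.map e.hom.op y)
  refine ⟨G.val.map e.inv.op x, ?_⟩
  have h1 : G'.val.map (e.hom.op ≫ e.inv.op) y = y := by
    rw [← op_comp, e.inv_hom_id]
    simp
  rw [PresheafOfModules.map_comp_apply] at h1
  rw [PresheafOfModules.naturality_apply, hx]
  exact h1

/-- finite generation of sections over small affine opens -/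
theorem finite_of_isFiniteType
    (hB : Coh.IsQCoh ((SheafOfModules.restrictScalars φ).obj (SheafOfModules.unit B)))
    (F : SheafOfModules.{u} B) (hF : Coh.IsQCoh ((SheafOfModules.restrictScalars φ).obj F))
    (hft : SheafOfModules.IsFiniteType (R := B) F) (x : X) :
    ∃ U : X.Opens, x ∈ U ∧ IsAffineOpen U ∧ Module.Finite (B.obj.obj (op U)) (F.val.obj (op U)) := by
  obtain ⟨q, hq⟩ := hft.exists_localGeneratorsData
  obtain ⟨U, i, hU, hxU, hUi⟩ : ∃ (U : X.Opens) (i : q.I), IsAffineOpen U ∧ x ∈ U ∧ U ≤ q.X i := by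
    have := q.coversTop
    rw [Opens.coversTop_iff] at this
    have hx : x ∈ (⊤ : X.Opens) := trivial
    rw [← show ⨆ i, q.X i = (⊤ : X.Opens) from this] at hx
    obtain ⟨i, hi⟩ := Opens.mem_iSup.mp hx
    obtain ⟨_, ⟨U, hU, rfl⟩, hxU, hUi⟩ :=
      (X.isBasis_affineOpens).exists_subset_of_mem_open hi (q.X i).2
    exact ⟨U, i, hU, hxU, hUi⟩
  refine ⟨U, hxU, hU, ?_⟩
  have := hq.isFiniteType i
  let g1 := (q.generators i).map (SheafOfModules.overMap B (homOfLE hUi))
    (SheafOfModules.overMapUnitIso (homOfLE hUi)).symm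
  let g2 := g1.ofEpi ((SheafOfModules.overFunctorMap B (homOfLE hUi)).app F).hom
  have hfin : Finite g2.I := inferInstanceAs (Finite (q.generators i).I)
  have hBx : Coh.IsQCoh ((resSpec φ hU).obj (SheafOfModules.unit (B.over U))) := by
    refine QCohLoc.isQCoh_of_iso ((overCompResSpec φ hU).app (SheafOfModules.unit B)).symm ?_
    have := hB
    exact QCohLoc.isQCoh_restrict _ _
  have hFx : Coh.IsQCoh ((resSpec φ hU).obj (SheafOfModules.over F U)) := by
    refine QCohLoc.isQCoh_of_iso ((overCompResSpec φ hU).app F).symm ?_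
    have := hF
    exact QCohLoc.isQCoh_restrict _ _
  have hfree : Coh.IsQCoh ((resSpec φ hU).obj (SheafOfModules.free g2.I)) :=
    isQCoh_resSpec_free φ hU hBx _
  have hepi : Epi ((resSpec φ hU).map g2.π) := inferInstance
  have hs : Function.Surjective (((resSpec φ hU).map g2.π).app ⊤) := by
    have := hFx
    have := hfree
    exact Groth.Agent.FormalB.QcSect.surjective_app_of_epi _ (isAffineOpen_top _)
  have hs' := surjective_of_resSpec_app_top φ hU _ hs
  have h1 : Module.Finite ((B.over U).obj.obj (tO U))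
      ((SheafOfModules.free (R := B.over U) g2.I).val.obj (tO U)) :=
    ⟨by
      rw [← QAlgFP.span_freeSection]
      exact Submodule.fg_span (Set.finite_range _)⟩
  have h2 : Module.Finite ((B.over U).obj.obj (tO U)) ((SheafOfModules.over F U).val.obj (tO U)) :=
    Module.Finite.of_surjective (g2.π.val.app (tO U)).hom hs'
  exact h2

theorem isFiniteType_of_finite
    (F : SheafOfModules.{u} B) (hF : Coh.IsQCoh ((SheafOfModules.restrictScalars φ).obj F))
    (h : ∀ U : X.Opens, IsAffineOpen U → Module.Finite (B.obj.obj (op U)) (F.val.obj (op U))) :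
    SheafOfModules.IsFiniteType (R := B) F := by
  have key : ∀ U : X.affineOpens, ∃ g : (SheafOfModules.over F U.1).GeneratingSections, g.IsFiniteType := by
    intro U
    have hFx : Coh.IsQCoh ((resSpec φ U.2).obj (SheafOfModules.over F U.1)) := by
      refine QCohLoc.isQCoh_of_iso ((overCompResSpec φ U.2).app F).symm ?_
      have := hF
      exact QCohLoc.isQCoh_restrict _ _
    obtain ⟨s, hs⟩ := (h U.1 U.2).fg_top
    have hs2 : Submodule.span (B.obj.obj (op U.1)) (Set.range fun i : s => (i : F.val.obj (op U.1))) = ⊤ := by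
      have e : (Set.range fun i : s => (i : F.val.obj (op U.1))) = (s : Set (F.val.obj (op U.1))) := by
        ext; simp
      rw [e]
      exact hs
    refine ⟨genOfSpan φ U.2 hFx (I := s) (fun i => (i : F.val.obj (op U.1))) hs2, ⟨?_⟩⟩
    exact inferInstanceAs (Finite s)
  choose g hg using key
  let σ : SheafOfModules.LocalGeneratorsData.{u} (R := B) F :=
    { I := X.affineOpens
      X := fun U => U.1
      coversTop := by
        rw [Opens.coversTop_iff]
        exact AlgebraicGeometry.iSup_affineOpens_eq_top X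
      generators := g }
  have hσ : σ.IsFiniteType := { isFiniteType := hg }
  have h2 : ∃ σ : SheafOfModules.LocalGeneratorsData.{u} (R := B) F, σ.IsFiniteType := ⟨σ, hσ⟩
  constructor
  exact h2

end general

variable {X S : Scheme.{u}} (f : X ⟶ S) [IsAffineHom f]

theorem isFiniteType_iff (F : X.Modules) (hF : Coh.IsQCoh F) :
    SheafOfModules.IsFiniteType.{u} (R := X.ringCatSheaf) F ↔
      SheafOfModules.IsFiniteType.{u} (R := AMod.ringSheaf (RelSpec.QCAlg.directImage f)) ((AMod.dirImg f).obj F) := by
  have hB : Coh.IsQCoh ((SheafOfModules.restrictScalars (AMod.strHom (RelSpec.QCAlg.directImage f))).obj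
      (SheafOfModules.unit (AMod.ringSheaf (RelSpec.QCAlg.directImage f)))) := by
    have h := Groth.Agent.CohqA.AffPush.isQCoh_push f (SheafOfModules.unit X.ringCatSheaf) 
      (Groth.Agent.Fdesc.StructMod.isQCoh_structureModule X)
    exact h
  have hF' : Coh.IsQCoh ((SheafOfModules.restrictScalars (AMod.strHom (RelSpec.QCAlg.directImage f))).obj
      ((AMod.dirImg f).obj F)) :=
    Groth.Agent.CohqA.AffPush.isQCoh_push f F hF
  constructor
  · intro h
    refine isFiniteType_of_finite (AMod.strHom (RelSpec.QCAlg.directImage f)) _ hF' fun U hU => ?_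
    have := hF
    exact QCohFinite.finite_sections F h (hU.preimage f)
  · intro h
    refine QCohOfLoc.isFiniteType_of_finite F fun x => ?_
    obtain ⟨U, hxU, hU, hfin⟩ := finite_of_isFiniteType (AMod.strHom (RelSpec.QCAlg.directImage f)) hB _ hF' h (f x)
    have := hF
    exact ⟨f ⁻¹ᵁ U, hxU, hU.preimage f, Groth.Agent.Ega1.LocMod.loc_of_isQuasicoherent F (hU.preimage f), hfin⟩

end K38.FT
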