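import Groth.Agent.EGA2.K38.TwoVar
import Groth.Agent.EGA2.K38.LinePair
import Groth.Agent.EGA2.K41.SymLine
import Groth.Agent.EGA2.K37.ConeProj2
import Groth.Agent.EGA2.K37.ConeImm
import Groth.Agent.EGA2.K40.GlueHom

/-!
# The projective closure of a line bundle, locally
-/

set_option autoImplicit false
universe u
open CategoryTheory CategoryTheory.Limits AlgebraicGeometry Opposite TopologicalSpace
open scoped HomogeneousIdeal

noncomputable section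

namespace K38.LineCone

open Groth.Agent.Fdesc.LocGen K38.LinePair K38.TwoVar K36.SymAlg K41.LineAlg

variable {Y : Scheme.{u}} {L : Y.Modules} {𝒮 𝒮h : RelProj.QCGrAlg Y} {j : L ⟶ 𝒮.toModule}
  (hLq : Coh.IsQCoh L) (hS : RelProj.IsGrSymAlg L 𝒮 j)
  {ι : 𝒮.toQCAlg ⟶ 𝒮h.toQCAlg} {z : 𝒮h.presheaf.obj (op ⊤)} (hz : RelCone.IsPolyOver 𝒮 𝒮h ι z)

variable (j) in
/-- the element of `𝒮(V)` attached to a section of `L` -/
abbrev jS {V : Y.Opens} (e : Γ(L, V)) : 𝒮.presheaf.obj (op V) := jApp L 𝒮.toQCAlg j V e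

include hLq hS in
theorem bijT {V : Y.Opens} (hV : IsAffineOpen V) {e : Γ(L, V)} (he : IsGen e) :
    Function.Bijective (Polynomial.eval₂RingHom (str 𝒮 V) (jS j e)) := by
  have h := K41.SymLine.bijective_eval₂ (he.bijective) (str 𝒮 V) (symHom L 𝒮.toQCAlg j V)
    (bijective_symHom hLq hS.1 V hV) (fun r => symHom_algebraMap _ _ _ _ r)
  rw [symHom_ι] at h
  exact h

/-- `ι(V)` as a graded homomorphism -/
abbrev gι {V : Y.Opens} (hV : IsAffineOpen V) : 𝒮.deg V hV →+*ᵍ 𝒮h.deg V hV := RelProj.gradedHomAt ι hz.graded V hV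

theorem bijz {V : Y.Opens} (hV : IsAffineOpen V) :
    Function.Bijective (Polynomial.eval₂RingHom
      (gι hz hV : 𝒮.presheaf.obj (op V) →+* 𝒮h.presheaf.obj (op V)) (RelCone.restrictTop 𝒮h z V)) :=
  hz.bij V hV

variable {C υ : Type u} [CommRing C] [SetLike υ C] [AddSubgroupClass υ C] {𝒞 : ℕ → υ} [GradedRing 𝒞]

/-- The graded homomorphism `𝒮h(V) = O(V)[T, z] → C`. -/
def lft {V : Y.Opens} (hV : IsAffineOpen V) {e : Γ(L, V)} (he : IsGen e) (ψ : Γ(Y, V) →+* C) (hψ : ∀ r, ψ r ∈ 𝒞 0)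
    {c d : C} (hc : c ∈ 𝒞 1) (hd : d ∈ 𝒞 1) : 𝒮h.deg V hV →+*ᵍ 𝒞 :=
  liftGr (bijT hLq hS hV he) (bijz hz hV) (hS.2 V hV e) (fun r => 𝒮.str_mem V hV r) (hz.deg_z V hV) ψ hψ hc hd

variable {V : Y.Opens} (hV : IsAffineOpen V) {e : Γ(L, V)} (he : IsGen e) (ψ : Γ(Y, V) →+* C) (hψ : ∀ r, ψ r ∈ 𝒞 0)
    {c d : C} (hc : c ∈ 𝒞 1) (hd : d ∈ 𝒞 1)

theorem lft_str (r : Γ(Y, V)) : lft hLq hS hz hV he ψ hψ hc hd (gι hz hV (str 𝒮 V r)) = ψ r :=
  lift_φ (bijT hLq hS hV he) (bijz hz hV) ψ c d r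

theorem lft_T : lft hLq hS hz hV he ψ hψ hc hd (gι hz hV (jS j e)) = c :=
  lift_T (bijT hLq hS hV he) (bijz hz hV) ψ c d

theorem lft_z : lft hLq hS hz hV he ψ hψ hc hd (RelCone.restrictTop 𝒮h z V) = d :=
  lift_z (bijT hLq hS hV he) (bijz hz hV) ψ c d

theorem gι_str {V : Y.Opens} (hV : IsAffineOpen V) (r : Γ(Y, V)) : gι hz hV (str 𝒮 V r) = str 𝒮h V r :=
  congrArg (fun t => (t.app (op V)).hom r) ι.comm

include hLq hS in
/-- two homomorphisms out of `𝒮h(V)` differing by a factor -/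
theorem eq_pow_mul {V : Y.Opens} (hV : IsAffineOpen V) {e : Γ(L, V)} (he : IsGen e)
    (f g : 𝒮h.presheaf.obj (op V) →+* C) (v : C) (h1 : ∀ r, f (str 𝒮h V r) = g (str 𝒮h V r))
    (h2 : f (gι hz hV (jS j e)) = v * g (gι hz hV (jS j e)))
    (h3 : f (RelCone.restrictTop 𝒮h z V) = v * g (RelCone.restrictTop 𝒮h z V)) {k : ℕ} {x : 𝒮h.presheaf.obj (op V)}
    (hx : x ∈ 𝒮h.deg V hV k) : f x = v ^ k * g x :=
  map_eq_pow_mul (bijT hLq hS hV he) (bijz hz hV) (hS.2 V hV e) (fun r => 𝒮.str_mem V hV r) (hz.deg_z V hV) f g v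
    (fun r => by rw [gι_str]; exact h1 r) h2 h3 hx

include hLq hS in
theorem hom_ext' {V : Y.Opens} (hV : IsAffineOpen V) {e : Γ(L, V)} (he : IsGen e)
    (f g : 𝒮h.presheaf.obj (op V) →+* C) (h1 : ∀ r, f (str 𝒮h V r) = g (str 𝒮h V r))
    (h2 : f (gι hz hV (jS j e)) = g (gι hz hV (jS j e)))
    (h3 : f (RelCone.restrictTop 𝒮h z V) = g (RelCone.restrictTop 𝒮h z V)) : f = g :=
  TwoVar.hom_ext (bijT hLq hS hV he) (bijz hz hV) (fun r => by
    have := gι_str hz hV r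
    change f (gι hz hV (str 𝒮 V r)) = g (gι hz hV (str 𝒮 V r))
    rw [this]; exact h1 r) h2 h3

end K38.LineCone
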