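import Groth.Agent.EGA2.K38.ConeSwap2
import Groth.Agent.EGA2.K42.DomMap

/-!
# The pointed projective cone of a line bundle is the dual line bundle
-/

set_option autoImplicit false
universe u
open CategoryTheory CategoryTheory.Limits AlgebraicGeometry Opposite TopologicalSpace
open HomogeneousLocalization
open scoped HomogeneousIdeal

noncomputable section

namespace K38.LineIso

open Groth.Agent.Fdesc.LocGen K38.LinePair K38.TwoVar K36.SymAlg K41.LineAlg K38.LineCone K38.ConeSwap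

variable {Y : Scheme.{u}} {L L' : Y.Modules} (D : Dat L) (𝔓 : Pairing L L')

/-- a symmetric algebra of `L'` -/
structure Alg (L' : Y.Modules) where
  𝒮 : RelSpec.QCAlg Y
  j : L' ⟶ 𝒮.toModule
  hLq : Coh.IsQCoh L'
  hS : RelSpec.IsSymAlg L' 𝒮 j

variable (A : Alg L')

/-- structure map -/
abbrev Alg.str (A : Alg L') (V : Y.Opens) : Γ(Y, V) →+* A.𝒮.presheaf.obj (op V) := (A.𝒮.str.app (op V)).hom

/-- `j` on sections -/
abbrev Alg.jS (A : Alg L') {V : Y.Opens} (e : Γ(L', V)) : A.𝒮.presheaf.obj (op V) := jApp L' A.𝒮 A.j V e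

theorem Alg.bij (A : Alg L') {V : Y.Opens} (hV : IsAffineOpen V) {e : Γ(L', V)} (he : IsGen e) :
    Function.Bijective (Polynomial.eval₂RingHom (A.str V) (A.jS e)) := by
  have h := K41.SymLine.bijective_eval₂ (he.bijective) (A.str V) (symHom L' A.𝒮 A.j V)
    (bijective_symHom A.hLq A.hS V hV) (fun r => symHom_algebraMap _ _ _ _ r)
  rw [symHom_ι] at h
  exact h

/-- `𝒮h(V) → 𝒮'(V)`, `T ↦ 1`, `z ↦ e'`. -/
def ev (t : 𝔓.Triv) : D.𝒮h.presheaf.obj (op t.V) →+* A.𝒮.presheaf.obj (op t.V) :=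
  lift (bijT D.hLq D.hS t.hV (𝔓.gen t.rel)) (bijz D.hz t.hV) (A.str t.V) 1 (A.jS t.e')

theorem ev_str (t : 𝔓.Triv) (r : Γ(Y, t.V)) : ev D 𝔓 A t (str D.𝒮h t.V r) = A.str t.V r := by
  have := gι_str D.hz t.hV r
  rw [← this]
  exact lift_φ _ _ _ _ _ r

theorem ev_T (t : 𝔓.Triv) : ev D 𝔓 A t (D.T t.hV t.e) = 1 := lift_T _ _ _ _ _

theorem ev_z (t : 𝔓.Triv) : ev D 𝔓 A t (D.zV t.V) = A.jS t.e' := lift_z _ _ _ _ _

/-- `𝒮h(V)_(T) → 𝒮'(V)` -/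
def γ (t : 𝔓.Triv) : Away (D.𝒮h.deg t.V t.hV) (D.T t.hV t.e) →+* A.𝒮.presheaf.obj (op t.V) :=
  away1 (ev D 𝔓 A t) (ev_T D 𝔓 A t)

theorem γ_mk (t : 𝔓.Triv) (n : ℕ) (x : D.𝒮h.presheaf.obj (op t.V)) (hx : x ∈ D.𝒮h.deg t.V t.hV (n • 1)) :
    γ D 𝔓 A t (Away.mk (D.𝒮h.deg t.V t.hV) (D.T_mem t.hV t.e) n x hx) = ev D 𝔓 A t x :=
  away1_mk (ι := gι D.hz t.hV) (ev D 𝔓 A t) (ev_T D 𝔓 A t) (D.T_mem t.hV t.e) n x hx

theorem γ_bijective (t : 𝔓.Triv) : Function.Bijective (γ D 𝔓 A t) :=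
  away1_bijective (bijT D.hLq D.hS t.hV (𝔓.gen t.rel)) (bijz D.hz t.hV) (D.hS.2 t.V t.hV t.e)
    (fun r => D.𝒮.str_mem t.V t.hV r) (D.hz.deg_z t.V t.hV) (A.str t.V) (A.jS t.e') (A.bij t.hV (𝔓.gen' t.rel))

instance (t : 𝔓.Triv) : IsIso (Spec.map (CommRingCat.ofHom (γ D 𝔓 A t))) := by
  have : IsIso (CommRingCat.ofHom (γ D 𝔓 A t)) :=
    (ConcreteCategory.isIso_iff_bijective _).2 (γ_bijective D 𝔓 A t)
  infer_instance

section glue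

variable {PC : Scheme.{u}} (pC : PC ⟶ Y)
    (chartC : ∀ (U : Y.Opens) (hU : IsAffineOpen U), (((pC ⁻¹ᵁ U : PC.Opens) : Scheme.{u}) ≅ Proj (D.𝒮h.deg U hU)))
    (hPC : RelProj.IsRelProj D.𝒮h pC chartC)

/-- the morphism `Spec 𝒮'(V) → Proj 𝒮h(V)` -/
def k (t : 𝔓.Triv) : Spec (A.𝒮.presheaf.obj (op t.V)) ⟶ Proj (D.𝒮h.deg t.V t.hV) :=
  Spec.map (CommRingCat.ofHom (γ D 𝔓 A t)) ≫
    Proj.awayι (D.𝒮h.deg t.V t.hV) (D.T t.hV t.e) (D.T_mem t.hV t.e) one_pos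

instance (t : 𝔓.Triv) : IsOpenImmersion (k D 𝔓 A t) := by unfold k; infer_instance

theorem mem_range_k_iff (t : 𝔓.Triv) (x : Proj (D.𝒮h.deg t.V t.hV)) :
    x ∈ Set.range (k D 𝔓 A t) ↔ D.T t.hV t.e ∉ x.asHomogeneousIdeal := by
  have h1 : (Spec.map (CommRingCat.ofHom (γ D 𝔓 A t)) ≫
      Proj.awayι (D.𝒮h.deg t.V t.hV) (D.T t.hV t.e) (D.T_mem t.hV t.e) one_pos).opensRange =
      Proj.basicOpen (D.𝒮h.deg t.V t.hV) (D.T t.hV t.e) := by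
    rw [Scheme.Hom.opensRange_comp_of_isIso, Proj.opensRange_awayι]
  change x ∈ (Spec.map (CommRingCat.ofHom (γ D 𝔓 A t)) ≫
      Proj.awayι (D.𝒮h.deg t.V t.hV) (D.T t.hV t.e) (D.T_mem t.hV t.e) one_pos).opensRange ↔ _
  rw [h1]
  rfl

/-- the morphism on charts -/
def mor (t : 𝔓.Triv) : Spec (A.𝒮.presheaf.obj (op t.V)) ⟶ PC := k D 𝔓 A t ≫ RelProj.emb pC chartC t.V t.hV

theorem twist (t c : 𝔓.Triv) (i : c.V ≤ t.V) : ∃ a b : Γ(Y, c.V), a * b = 1 ∧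
    D.𝒮h.res t.hV c.hV i (D.T t.hV t.e) = str D.𝒮h c.V b * D.T c.hV c.e ∧
    ∀ n, ∀ x ∈ D.𝒮h.deg t.V t.hV n, (A.𝒮.presheaf.map (homOfLE i).op).hom (ev D 𝔓 A t x) =
      A.str c.V a ^ n * ev D 𝔓 A c (D.𝒮h.res t.hV c.hV i x) := by
  obtain ⟨a, b, hab, h1, h2⟩ := 𝔓.unit (𝔓.rel_res i t.rel) c.rel
  have h1' : Groth.Agent.Fdesc.LocGen.res L i t.e = b • c.e := by
    rw [h1, smul_smul, mul_comm, hab, one_smul]
  have h2' : Groth.Agent.Fdesc.LocGen.res L' i t.e' = a • c.e' := by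
    rw [h2, smul_smul, hab, one_smul]
  have hs : A.str c.V a * A.str c.V b = 1 := by rw [← map_mul, hab, map_one]
  have hT : D.𝒮h.res t.hV c.hV i (D.T t.hV t.e) = str D.𝒮h c.V b * D.T c.hV c.e := by
    rw [D.T_res, h1', D.T_smul]
  have hr : ∀ r, (A.𝒮.presheaf.map (homOfLE i).op).hom (A.str t.V r) = A.str c.V (resO i r) := fun r =>
    ConcreteCategory.congr_hom (A.𝒮.str.naturality (homOfLE i).op).symm r
  refine ⟨a, b, hab, hT, fun n x hx => ?_⟩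
  refine eq_pow_mul D.hLq D.hS D.hz t.hV (𝔓.gen t.rel)
    ((A.𝒮.presheaf.map (homOfLE i).op).hom.comp (ev D 𝔓 A t))
    ((ev D 𝔓 A c).comp (D.𝒮h.res t.hV c.hV i : D.𝒮h.presheaf.obj (op t.V) →+* D.𝒮h.presheaf.obj (op c.V)))
    (A.str c.V a) (fun r => ?_) ?_ ?_ hx
  · change (A.𝒮.presheaf.map (homOfLE i).op).hom (ev D 𝔓 A t (str D.𝒮h t.V r)) =
      ev D 𝔓 A c (D.𝒮h.res t.hV c.hV i (str D.𝒮h t.V r))
    rw [ev_str, res_str', ev_str, hr]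
  · change (A.𝒮.presheaf.map (homOfLE i).op).hom (ev D 𝔓 A t (D.T t.hV t.e)) =
      A.str c.V a * ev D 𝔓 A c (D.𝒮h.res t.hV c.hV i (D.T t.hV t.e))
    rw [ev_T, hT, map_mul, ev_str, ev_T, map_one, mul_one, hs]
  · change (A.𝒮.presheaf.map (homOfLE i).op).hom (ev D 𝔓 A t (D.zV t.V)) =
      A.str c.V a * ev D 𝔓 A c (D.𝒮h.res t.hV c.hV i (D.zV t.V))
    rw [ev_z, D.z_res, ev_z]
    have h3 := jApp_res L' A.𝒮 A.j i t.e'
    have h4 := jApp_smul L' A.𝒮 A.j c.V a c.e'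
    rw [← h3]
    exact (congrArg (fun q => A.jS q) h2').trans h4

theorem res_k (t c : 𝔓.Triv) (r : Γ(Y, t.V)) (h : Y.basicOpen r = c.V) (i : c.V ≤ t.V) :
    Spec.map (A.𝒮.presheaf.map (homOfLE i).op) ≫ k D 𝔓 A t =
      k D 𝔓 A c ≫ Proj.map (D.𝒮h.res t.hV c.hV i) (K37.ProjBase.irr_of_eq D.𝒮h t.hV c.hV r h i) := by
  obtain ⟨a, b, hab, hT, hx⟩ := twist D 𝔓 A t c i
  have hrT : D.𝒮h.res t.hV c.hV i (D.T t.hV t.e) ∈ D.𝒮h.deg c.V c.hV 1 :=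
    (D.𝒮h.res t.hV c.hV i).map_mem (D.T_mem t.hV t.e)
  have ha0 : str D.𝒮h c.V a ∈ D.𝒮h.deg c.V c.hV 0 := str_mem c.hV a
  have hs : str D.𝒮h c.V b * str D.𝒮h c.V a = 1 := by rw [← map_mul, mul_comm, hab, map_one]
  have hTc : D.T c.hV c.e = D.𝒮h.res t.hV c.hV i (D.T t.hV t.e) * str D.𝒮h c.V a := by
    rw [hT, mul_right_comm, hs, one_mul]
  have e1 : Proj.awayι (D.𝒮h.deg c.V c.hV) (D.T c.hV c.e) (D.T_mem c.hV c.e) one_pos =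
      Spec.map (CommRingCat.ofHom (awayMap (D.𝒮h.deg c.V c.hV) ha0 hTc)) ≫
        Proj.awayι (D.𝒮h.deg c.V c.hV) (D.𝒮h.res t.hV c.hV i (D.T t.hV t.e)) hrT one_pos :=
    (Proj.SpecMap_awayMap_awayι (𝒜 := D.𝒮h.deg c.V c.hV) hrT one_pos ha0 hTc).symm
  have e2 := Proj.awayι_comp_map (D.𝒮h.res t.hV c.hV i) (K37.ProjBase.irr_of_eq D.𝒮h t.hV c.hV r h i) one_pos
    (D.T t.hV t.e) (D.T_mem t.hV t.e)
  have e3 : (A.𝒮.presheaf.map (homOfLE i).op).hom.comp (γ D 𝔓 A t) = ((γ D 𝔓 A c).comp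
      (awayMap (D.𝒮h.deg c.V c.hV) ha0 hTc)).comp
        (Away.map (D.𝒮h.res t.hV c.hV i) (D.T t.hV t.e)) := by
    ext q
    obtain ⟨n, x, hxn, rfl⟩ := Away.mk_surjective (D.𝒮h.deg t.V t.hV) (D.T_mem t.hV t.e) q
    rw [RingHom.comp_apply, RingHom.comp_apply, RingHom.comp_apply, γ_mk, Away.map_mk, awayMap_mk]
    have h5 := γ_mk D 𝔓 A c n (D.𝒮h.res t.hV c.hV i x * str D.𝒮h c.V a ^ n) (by
      have := SetLike.mul_mem_graded (A := D.𝒮h.deg c.V c.hV) ((D.𝒮h.res t.hV c.hV i).map_mem hxn)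
        (SetLike.pow_mem_graded n ha0)
      simpa using this)
    refine Eq.trans ?_ h5.symm
    rw [hx n x (by simpa using hxn), map_mul, map_pow, ev_str, mul_comm]
  have e4 : Spec.map (A.𝒮.presheaf.map (homOfLE i).op) ≫ Spec.map (CommRingCat.ofHom (γ D 𝔓 A t)) =
      Spec.map (CommRingCat.ofHom (γ D 𝔓 A c)) ≫ Spec.map (CommRingCat.ofHom (awayMap (D.𝒮h.deg c.V c.hV) ha0 hTc)) ≫
        Spec.map (CommRingCat.ofHom (Away.map (D.𝒮h.res t.hV c.hV i) (D.T t.hV t.e))) := by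
    rw [← Spec.map_comp, ← Spec.map_comp, ← Spec.map_comp]
    congr 1
    ext q
    exact congrArg (fun t => t q) e3
  rw [k, reassoc_of% e4, k, Category.assoc, e1, Category.assoc, e2]

include hPC in
theorem refines (t c : 𝔓.Triv) (r : Γ(Y, t.V)) (h : Y.basicOpen r = c.V) (i : c.V ≤ t.V) :
    K40.GlueHom.Refines (fun t : 𝔓.Triv => Spec (A.𝒮.presheaf.obj (op t.V))) (fun t => A.𝒮.ι t.V t.hV)
      (mor D 𝔓 A pC chartC) c t := by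
  refine ⟨Spec.map (A.𝒮.presheaf.map (homOfLE i).op), K37.SpecBase.ι_res_of_eq A.𝒮 t.hV c.hV r h i, ?_⟩
  rw [mor, mor, ← K37.ProjBase.emb_res_of_eq hPC t.hV c.hV r h i, ← Category.assoc, res_k D 𝔓 A t c r h i,
    Category.assoc]

theorem exists_triv_chart (s : A.𝒮.spec) :
    ∃ (t : 𝔓.Triv) (x : Spec (A.𝒮.presheaf.obj (op t.V))), A.𝒮.ι t.V t.hV x = s := by
  obtain ⟨t, ht⟩ := 𝔓.exists_triv (A.𝒮.π s)
  obtain ⟨x, hx⟩ := K37.SpecBase.exists_of_mem A.𝒮 t.V t.hV s ht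
  exact ⟨t, x, hx⟩

theorem π_ι_mem (U : Y.Opens) (hU : IsAffineOpen U) (x : Spec (A.𝒮.presheaf.obj (op U))) :
    A.𝒮.π (A.𝒮.ι U hU x) ∈ U := by
  have : A.𝒮.ι U hU x ∈ (A.𝒮.ι U hU).opensRange := ⟨x, rfl⟩
  rw [← A.𝒮.π_preimage U hU] at this
  exact this

include hPC in
theorem exists_mor : ∃ Φ : A.𝒮.spec ⟶ PC, ∀ t : 𝔓.Triv,
    A.𝒮.ι t.V t.hV ≫ Φ = mor D 𝔓 A pC chartC t := by
  refine K40.GlueHom.exists_glue (fun t : 𝔓.Triv => Spec (A.𝒮.presheaf.obj (op t.V)))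
    (fun t => A.𝒮.ι t.V t.hV) (mor D 𝔓 A pC chartC) (fun c => ?_) (fun a b c ha hb => ?_)
  · obtain ⟨t, x, hx⟩ := exists_triv_chart 𝔓 A c
    exact ⟨t, x, hx⟩
  · obtain ⟨x, hx⟩ := ha
    obtain ⟨y, hy⟩ := hb
    have hxa : A.𝒮.π c ∈ a.V := by rw [← hx]; exact π_ι_mem A a.V a.hV x
    have hxb : A.𝒮.π c ∈ b.V := by rw [← hy]; exact π_ι_mem A b.V b.hV y
    obtain ⟨f, g, e, hp⟩ := exists_basicOpen_le_affine_inter a.hV b.hV (A.𝒮.π c) ⟨hxa, hxb⟩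
    have hW : IsAffineOpen (Y.basicOpen f) := a.hV.basicOpen f
    have iV : Y.basicOpen f ≤ b.V := e ▸ Y.basicOpen_le g
    obtain ⟨w, hw⟩ := K37.SpecBase.exists_of_mem A.𝒮 (Y.basicOpen f) hW c hp
    exact ⟨a.restrict hW (Y.basicOpen_le f), ⟨w, hw⟩,
      refines D 𝔓 A pC chartC hPC a (a.restrict hW (Y.basicOpen_le f)) f rfl (Y.basicOpen_le f),
      refines D 𝔓 A pC chartC hPC b (a.restrict hW (Y.basicOpen_le f)) g e.symm iV⟩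

include hPC in
theorem comp_p {Φ : A.𝒮.spec ⟶ PC}
    (hΦ : ∀ t : 𝔓.Triv, A.𝒮.ι t.V t.hV ≫ Φ = mor D 𝔓 A pC chartC t) : Φ ≫ pC = A.𝒮.π := by
  apply K40.GlueHom.hom_ext_local
  intro c
  obtain ⟨t, x, hx⟩ := exists_triv_chart 𝔓 A c
  refine ⟨_, A.𝒮.ι t.V t.hV, inferInstance, ⟨x, hx⟩, ?_⟩
  have h2 : D.𝒮h.strZero t.V t.hV ≫ CommRingCat.ofHom (fromZeroRingHom (D.𝒮h.deg t.V t.hV)
      (Submonoid.powers (D.T t.hV t.e))) ≫ CommRingCat.ofHom (γ D 𝔓 A t) = A.𝒮.str.app (op t.V) := by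
    ext r
    have h3 : fromZeroRingHom (D.𝒮h.deg t.V t.hV) (Submonoid.powers (D.T t.hV t.e))
        ((D.𝒮h.strZero t.V t.hV).hom r) = Away.mk (D.𝒮h.deg t.V t.hV) (D.T_mem t.hV t.e) 0
          (str D.𝒮h t.V r) (by simpa using str_mem t.hV r) := by
      apply HomogeneousLocalization.val_injective
      rw [Away.val_mk]
      change (HomogeneousLocalization.mk _).val = _
      rw [HomogeneousLocalization.val_mk]
      congr 1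
      exact Subtype.ext (pow_zero _).symm
    change γ D 𝔓 A t (fromZeroRingHom (D.𝒮h.deg t.V t.hV) (Submonoid.powers (D.T t.hV t.e))
        ((D.𝒮h.strZero t.V t.hV).hom r)) = _
    rw [h3, γ_mk]
    exact ev_str D 𝔓 A t r
  rw [reassoc_of% (hΦ t), mor, Category.assoc, K37.ProjBase.emb_p hPC, A.𝒮.ι_π, k, Category.assoc,
    Proj.awayι_toSpecZero_assoc, ← Spec.map_comp_assoc, ← Spec.map_comp_assoc]
  rw [h2]

include hPC in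
theorem isOpenImmersion_of {Φ : A.𝒮.spec ⟶ PC}
    (hΦ : ∀ t : 𝔓.Triv, A.𝒮.ι t.V t.hV ≫ Φ = mor D 𝔓 A pC chartC t) : IsOpenImmersion Φ := by
  refine K42.DomMap.of_forall_isPullback (Q := @IsOpenImmersion) Φ fun y => ?_
  obtain ⟨t, x, hx⟩ := ConeSwap.exists_triv_chart D 𝔓 pC chartC y
  refine ⟨_, _, k D 𝔓 A t, A.𝒮.ι t.V t.hV, RelProj.emb pC chartC t.V t.hV, inferInstance, ⟨x, hx⟩, ?_, inferInstance⟩
  refine IsOpenImmersion.isPullback _ _ _ _ (hΦ t) ?_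
  rw [K37.ProjBase.opensRange_emb, ← Scheme.Hom.comp_preimage, comp_p D 𝔓 A pC chartC hPC hΦ,
    A.𝒮.π_preimage t.V t.hV]

include hPC in
theorem range_eq {Φ : A.𝒮.spec ⟶ PC}
    (hΦ : ∀ t : 𝔓.Triv, A.𝒮.ι t.V t.hV ≫ Φ = mor D 𝔓 A pC chartC t) :
    Set.range Φ = Set.range (RelCone.pointedProjCone D.𝒮 D.hz pC chartC).ι := by
  rw [Scheme.Opens.range_ι]
  ext c
  obtain ⟨t, x, rfl⟩ := ConeSwap.exists_triv_chart D 𝔓 pC chartC c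
  have h1 : RelProj.emb pC chartC t.V t.hV x ∈ RelCone.pointedProjCone D.𝒮 D.hz pC chartC ↔
      D.T t.hV t.e ∉ x.asHomogeneousIdeal :=
    (K37.ConeProj2.emb_mem_pointedProjCone_iff D.hz hPC t.V t.hV x).trans (ConeSwap.mem_domOpen_iff_T D 𝔓 x)
  refine Iff.trans ?_ ((mem_range_k_iff D 𝔓 A t x).trans h1.symm)
  constructor
  · rintro ⟨s, hs⟩
    have hs' : A.𝒮.π s ∈ t.V := by
      rw [← comp_p D 𝔓 A pC chartC hPC hΦ, Scheme.Hom.comp_apply, hs]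
      exact K37.ProjBase.emb_mem pC chartC t.V t.hV x
    obtain ⟨w, rfl⟩ := K37.SpecBase.exists_of_mem A.𝒮 t.V t.hV s hs'
    refine ⟨w, (RelProj.emb pC chartC t.V t.hV).isOpenEmbedding.injective ?_⟩
    rw [← hs, ← Scheme.Hom.comp_apply, ← Scheme.Hom.comp_apply, hΦ, mor]
  · rintro ⟨w, rfl⟩
    refine ⟨A.𝒮.ι t.V t.hV w, ?_⟩
    rw [← Scheme.Hom.comp_apply, hΦ, mor, Scheme.Hom.comp_apply]

end glue

/-- **EGA II 8.7**: `V(L') ≅ Ê`. -/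
theorem main {PC : Scheme.{u}} (hL : PicF.IsInvertible L) (hL' : PicF.IsInvertible L')
    (hLL' : Nonempty (CohB1.tensorMod L L' ≅ Coh.structureModule Y)) (pC : PC ⟶ Y)
    (chartC : ∀ (U : Y.Opens) (hU : IsAffineOpen U), (((pC ⁻¹ᵁ U : PC.Opens) : Scheme.{u}) ≅ Proj (D.𝒮h.deg U hU)))
    (hPC : RelProj.IsRelProj D.𝒮h pC chartC) :
    ∃ e : A.𝒮.spec ≅ ((RelCone.pointedProjCone D.𝒮 D.hz pC chartC : PC.Opens) : Scheme.{u}),
      e.hom ≫ (RelCone.pointedProjCone D.𝒮 D.hz pC chartC).ι ≫ pC = A.𝒮.π := by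
  obtain ⟨θ⟩ := hLL'
  let 𝔓 : Pairing L L' := LinePair.ofIso θ.hom hL hL'
  obtain ⟨Φ, hΦ⟩ := exists_mor D 𝔓 A pC chartC hPC
  have := isOpenImmersion_of D 𝔓 A pC chartC hPC hΦ
  refine ⟨IsOpenImmersion.isoOfRangeEq Φ (RelCone.pointedProjCone D.𝒮 D.hz pC chartC).ι
    (range_eq D 𝔓 A pC chartC hPC hΦ), ?_⟩
  rw [IsOpenImmersion.isoOfRangeEq_hom_fac_assoc]
  exact comp_p D 𝔓 A pC chartC hPC hΦ

end K38.LineIso
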