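import Mathlib.RingTheory.GradedAlgebra.Basic
import Mathlib.Algebra.Polynomial.AlgebraMap
import Mathlib.Algebra.Algebra.Operations
import Mathlib.Algebra.DirectSum.Internal
import Mathlib.RingTheory.GradedAlgebra.Homogeneous.Ideal

/-!
# The graded ring `S♮`: elementary facts (presented through `φ : B →ₐ A[X]`)
-/

set_option autoImplicit false
universe u
open scoped HomogeneousIdeal

namespace K38.Nat

variable {R A B : Type u} [CommRing R] [CommRing A] [Algebra R A]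
    (𝒜 : ℕ → Submodule R A) [GradedAlgebra 𝒜] [CommRing B] [Algebra R B] (ℬ : ℕ → Submodule R B)
    (φ : B →ₐ[R] Polynomial A)
    (hdeg : ∀ n : ℕ, Submodule.map φ.toLinearMap (ℬ n) =
      Submodule.map ((Polynomial.monomial n : A →ₗ[A] Polynomial A).restrictScalars R) (⨆ (m : ℕ) (_ : n ≤ m), 𝒜 m))

include hdeg

/-- an element of `S♮_n` is `a X^n` with `a ∈ S_[n]` -/
theorem exists_of_mem {n : ℕ} {b : B} (hb : b ∈ ℬ n) :
    ∃ a ∈ (⨆ (m : ℕ) (_ : n ≤ m), 𝒜 m), φ b = Polynomial.monomial n a := by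
  have h : φ b ∈ Submodule.map φ.toLinearMap (ℬ n) := ⟨b, hb, rfl⟩
  rw [hdeg] at h
  obtain ⟨a, ha, h⟩ := h
  exact ⟨a, ha, h.symm⟩

theorem exists_of_mem' {n : ℕ} {a : A} (ha : a ∈ (⨆ (m : ℕ) (_ : n ≤ m), 𝒜 m)) :
    ∃ b ∈ ℬ n, φ b = Polynomial.monomial n a := by
  have h : Polynomial.monomial n a ∈ Submodule.map φ.toLinearMap (ℬ n) := by
    rw [hdeg]; exact ⟨a, ha, rfl⟩
  obtain ⟨b, hb, h⟩ := h
  exact ⟨b, hb, h⟩

/-- a homogeneous element of degree `m ≥ n` placed in degree `n` -/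
theorem exists_lift {n m : ℕ} (hnm : n ≤ m) {a : A} (ha : a ∈ 𝒜 m) :
    ∃ b ∈ ℬ n, φ b = Polynomial.monomial n a :=
  exists_of_mem' 𝒜 ℬ φ hdeg (Submodule.mem_iSup_of_mem m (Submodule.mem_iSup_of_mem hnm ha))

/-- induction principle: a subset of `S♮_n` stable under addition containing all `a X^n`, `a` homogeneous -/
theorem induction_deg (hφ : Function.Injective φ) {n : ℕ} (P : B → Prop)
    (h0 : P 0) (hadd : ∀ x y, P x → P y → P (x + y))
    (hh : ∀ (m : ℕ) (_ : n ≤ m) (a : A) (_ : a ∈ 𝒜 m) (b : B) (_ : b ∈ ℬ n),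
      φ b = Polynomial.monomial n a → P b) (b : B) (hb : b ∈ ℬ n) : P b := by
  obtain ⟨a, ha, hab⟩ := exists_of_mem 𝒜 ℬ φ hdeg hb
  -- prove for all b with φ b = monomial n a
  have key : ∀ (a : A), a ∈ (⨆ (m : ℕ) (_ : n ≤ m), 𝒜 m) →
      ∀ b : B, b ∈ ℬ n → φ b = Polynomial.monomial n a → P b := by
    intro a ha
    refine Submodule.iSup_induction' (fun m => ⨆ (_ : n ≤ m), 𝒜 m)
      (motive := fun a _ => ∀ b : B, b ∈ ℬ n → φ b = Polynomial.monomial n a → P b) ?_ ?_ ?_ ha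
    · intro m x hx b hb hbx
      by_cases hnm : n ≤ m
      · simp only [hnm, iSup_pos] at hx
        exact hh m hnm x hx b hb hbx
      · simp only [hnm, iSup_neg, not_false_eq_true, Submodule.mem_bot] at hx
        subst hx
        rw [map_zero] at hbx
        have : b = 0 := hφ (by rw [hbx, map_zero])
        rw [this]; exact h0
    · intro b hb hbx
      rw [map_zero] at hbx
      have : b = 0 := hφ (by rw [hbx, map_zero])
      rw [this]; exact h0
    · intro x y hx hy ihx ihy b hb hbx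
      obtain ⟨bx, hbx1, hbx2⟩ := exists_of_mem' 𝒜 ℬ φ hdeg hx
      obtain ⟨by', hby1, hby2⟩ := exists_of_mem' 𝒜 ℬ φ hdeg hy
      have : b = bx + by' := hφ (by rw [hbx, map_add, map_add, hbx2, hby2])
      rw [this]
      exact hadd _ _ (ihx _ hbx1 hbx2) (ihy _ hby1 hby2)
  exact key a ha b hb hab

end K38.Nat
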