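import Mathlib.AlgebraicGeometry.ProjectiveSpectrum.Functor
import Mathlib.AlgebraicGeometry.Morphisms.IsIso

/-!
# When is `Proj` of a graded homomorphism an isomorphism?

* `isPullback_chart`: `D_+(f s) → D_+(s)` is the base change of `Proj.map f`.
* `isIso_map_of_away`: `Proj.map f` is an isomorphism if all `Away.map f s` (`s` homogeneous of positive degree)
  are bijective.
* `isIso_map_of_eventually`: in particular if `f` is bijective in all large degrees.
-/

set_option autoImplicit false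
universe u
open CategoryTheory CategoryTheory.Limits AlgebraicGeometry HomogeneousLocalization

namespace K38.ProjIso

variable {A B σ τ : Type u} [CommRing A] [SetLike σ A] [AddSubgroupClass σ A]
  [CommRing B] [SetLike τ B] [AddSubgroupClass τ B]
  {𝒜 : ℕ → σ} {ℬ : ℕ → τ} [GradedRing 𝒜] [GradedRing ℬ]
  (f : 𝒜 →+*ᵍ ℬ) (hf : HomogeneousIdeal.irrelevant ℬ ≤ (HomogeneousIdeal.irrelevant 𝒜).map f)

theorem isPullback_chart {i : ℕ} (hi : 0 < i) (s : A) (hs : s ∈ 𝒜 i) :
    IsPullback (Spec.map (CommRingCat.ofHom (Away.map f s))) (Proj.awayι ℬ (f s) (f.2 hs) hi)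
      (Proj.awayι 𝒜 s hs hi) (Proj.map f hf) := by
  apply IsOpenImmersion.isPullback
  · exact Proj.awayι_comp_map f hf hi s hs
  · have h1 : (Proj.awayι 𝒜 s hs hi).opensRange = Proj.basicOpen 𝒜 s :=
      Proj.opensRange_awayι _ _ _ _
    have h2 : (Proj.awayι ℬ (f s) (f.2 hs) hi).opensRange = Proj.basicOpen ℬ (f s) :=
      Proj.opensRange_awayι _ _ _ _
    rw [h1, h2]
    rfl

theorem isIso_map_of_away
    (h : ∀ (i : ℕ) (_ : 0 < i) (s : A) (_ : s ∈ 𝒜 i), Function.Bijective (Away.map f s : Away 𝒜 s →+* Away ℬ (f s))) :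
    IsIso (Proj.map f hf) := by
  rw [← MorphismProperty.isomorphisms.iff]
  refine IsZariskiLocalAtTarget.of_openCover (P := MorphismProperty.isomorphisms Scheme.{u})
    (Proj.affineOpenCover 𝒜).openCover fun j => ?_
  rw [MorphismProperty.isomorphisms.iff]
  have hi : 0 < (j.1.1 : ℕ) := j.1.2
  have hs : (j.2.1 : A) ∈ 𝒜 (j.1.1 : ℕ) := j.2.2
  have h1 := isPullback_chart f hf hi j.2.1 hs
  let e := h1.flip.isoPullback
  have he : e.hom ≫ pullback.snd _ _ = Spec.map (CommRingCat.ofHom (Away.map f j.2.1)) :=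
    h1.flip.isoPullback_hom_snd
  have h2 : IsIso (CommRingCat.ofHom (Away.map f j.2.1 : Away 𝒜 j.2.1 →+* Away ℬ (f j.2.1))) := by
    rw [ConcreteCategory.isIso_iff_bijective]
    exact h j.1.1 hi j.2.1 hs
  have h3 : IsIso (e.hom ≫ pullback.snd (Proj.map f hf) (Proj.awayι 𝒜 j.2.1 hs hi)) := by
    rw [he]; infer_instance
  exact IsIso.of_isIso_comp_left e.hom (pullback.snd (Proj.map f hf) (Proj.awayι 𝒜 j.2.1 hs hi))

theorem isIso_map_of_eventually (n₀ : ℕ)
    (hinj : ∀ n, n₀ ≤ n → ∀ a ∈ 𝒜 n, f a = 0 → a = 0)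
    (hsurj : ∀ n, n₀ ≤ n → ∀ b ∈ ℬ n, ∃ a ∈ 𝒜 n, f a = b) :
    IsIso (Proj.map f hf) := by
  refine isIso_map_of_away f hf fun i hi s hs => ⟨?_, ?_⟩
  · rw [injective_iff_map_eq_zero]
    intro x hx
    obtain ⟨n, a, ha, rfl⟩ := Away.mk_surjective 𝒜 hs x
    rw [Away.map_mk] at hx
    have h0 := congrArg HomogeneousLocalization.val hx
    rw [HomogeneousLocalization.val_zero, Away.val_mk] at h0
    rw [Localization.mk_eq_mk', IsLocalization.mk'_eq_zero_iff] at h0
    obtain ⟨⟨_, m, rfl⟩, hm⟩ := h0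
    -- `f (s ^ m * a) = 0`, multiply further
    have hz : f (s ^ (m + n₀) * a) = 0 := by
      rw [map_mul, map_pow, pow_add, mul_right_comm, hm, zero_mul]
    have hdeg : s ^ (m + n₀) * a ∈ 𝒜 ((m + n₀) • i + n • i) :=
      SetLike.mul_mem_graded (SetLike.pow_mem_graded _ hs) ha
    have hle : n₀ ≤ (m + n₀) • i + n • i := by
      simp only [smul_eq_mul]
      nlinarith [Nat.le_mul_of_pos_right n₀ hi, Nat.zero_le (m * i), Nat.zero_le (n * i)]
    have hz' := hinj _ hle _ hdeg hz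
    apply HomogeneousLocalization.val_injective
    rw [HomogeneousLocalization.val_zero, Away.val_mk, Localization.mk_eq_mk', IsLocalization.mk'_eq_zero_iff]
    exact ⟨⟨s ^ (m + n₀), m + n₀, rfl⟩, hz'⟩
  · intro z
    obtain ⟨n, b, hb, rfl⟩ := Away.mk_surjective ℬ (f.2 hs) z
    have hdeg : (f s) ^ n₀ * b ∈ ℬ ((n₀ + n) • i) := by
      rw [add_smul]
      exact SetLike.mul_mem_graded (SetLike.pow_mem_graded _ (f.2 hs)) hb
    have hle : n₀ ≤ (n₀ + n) • i := by
      simp only [smul_eq_mul]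
      nlinarith [Nat.le_mul_of_pos_right n₀ hi, Nat.zero_le (n * i)]
    obtain ⟨a, ha, hab⟩ := hsurj _ hle _ hdeg
    refine ⟨Away.mk 𝒜 hs (n₀ + n) a ha, ?_⟩
    rw [Away.map_mk]
    apply HomogeneousLocalization.val_injective
    rw [Away.val_mk, Away.val_mk, Localization.mk_eq_mk_iff, Localization.r_iff_exists]
    refine ⟨1, ?_⟩
    change ((1 : Submonoid.powers (f s)) : B) * ((f s) ^ n * f a) =
      ((1 : Submonoid.powers (f s)) : B) * ((f s) ^ (n₀ + n) * b)
    rw [hab, pow_add]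
    ring

end K38.ProjIso
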