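import Groth.Agent.EGA2.K38.Nat
import Groth.Agent.EGA2.K38.ProjIso
import Groth.Agent.Sga5.ProjSurj

/-!
# The graded homomorphism `S♮ ⊗_S S_0 → S`
-/

set_option autoImplicit false
universe u
open scoped HomogeneousIdeal

namespace K38.NatProj

variable {R A B C : Type u} [CommRing R] [CommRing A] [Algebra R A]
    (𝒜 : ℕ → Submodule R A) [GradedAlgebra 𝒜] [CommRing B] [Algebra R B] (ℬ : ℕ → Submodule R B) [GradedAlgebra ℬ]
    (φ : B →ₐ[R] Polynomial A) (hφ : Function.Injective φ)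
    (hdeg : ∀ n : ℕ, Submodule.map φ.toLinearMap (ℬ n) =
      Submodule.map ((Polynomial.monomial n : A →ₗ[A] Polynomial A).restrictScalars R) (⨆ (m : ℕ) (_ : n ≤ m), 𝒜 m))
    [CommRing C] [Algebra R C] (𝒞 : ℕ → Submodule R C) [GradedAlgebra 𝒞]
    (π : ℬ →+*ᵍ 𝒞) (hπ : Function.Surjective π)
    (hker : RingHom.ker π.toRingHom =
      Ideal.span (⇑φ ⁻¹' (⇑(Polynomial.C : A →+* Polynomial A) '' ((HomogeneousIdeal.irrelevant 𝒜).toIdeal : Set A))))
    (ρ : 𝒞 →+*ᵍ 𝒜) (hρ : ∀ (n : ℕ) (b : B), b ∈ ℬ n → ρ (π b) = GradedRing.proj 𝒜 n ((φ b).coeff n))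

include hdeg hρ in
theorem degSurj : Groth.Agent.Sga5.ProjSurj.DegSurj ρ := by
  intro n a ha
  obtain ⟨b, hb, hba⟩ := K38.Nat.exists_lift 𝒜 ℬ φ hdeg (le_refl n) ha
  refine ⟨π b, π.2 hb, ?_⟩
  rw [hρ n b hb, hba, Polynomial.coeff_monomial, if_pos rfl, GradedRing.proj_apply,
    DirectSum.decompose_of_mem_same _ ha]

include hπ in
/-- homogeneous elements of `T` lift to homogeneous elements of `S♮` -/
theorem exists_lift_hom {n : ℕ} {c : C} (hc : c ∈ 𝒞 n) : ∃ b ∈ ℬ n, π b = c := by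
  classical
  obtain ⟨b, rfl⟩ := hπ c
  refine ⟨(DirectSum.decompose ℬ b n : B), SetLike.coe_mem _, ?_⟩
  rw [GradedRingHom.map_directSumDecompose, DirectSum.decompose_of_mem_same _ hc]

include hφ hdeg hρ in
/-- the components: if `ρ (π b) = 0` for `b` in degree `n`, then `b` is a sum of elements `a X^n`,
`a` homogeneous of degree `≥ n + 1`. -/
theorem induction_ker {n : ℕ} (P : B → Prop)
    (h0 : P 0) (hadd : ∀ x y, P x → P y → P (x + y))
    (hh : ∀ (m : ℕ) (_ : n + 1 ≤ m) (a : A) (_ : a ∈ 𝒜 m) (b : B) (_ : b ∈ ℬ n),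
      φ b = Polynomial.monomial n a → P b) (b : B) (hb : b ∈ ℬ n) (hb0 : ρ (π b) = 0) : P b := by
  classical
  -- strengthen: for all b in degree n, `P (b - b₀)` where `b₀` lifts the degree-`n` component
  have key : ∀ b ∈ ℬ n, ∀ b₀ ∈ ℬ n,
      φ b₀ = Polynomial.monomial n (GradedRing.proj 𝒜 n ((φ b).coeff n)) → P (b - b₀) := by
    intro b hb
    refine K38.Nat.induction_deg 𝒜 ℬ φ hdeg hφ (fun b => ∀ b₀ ∈ ℬ n,
      φ b₀ = Polynomial.monomial n (GradedRing.proj 𝒜 n ((φ b).coeff n)) → P (b - b₀)) ?_ ?_ ?_ b hb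
    · intro b₀ _ h
      rw [map_zero, Polynomial.coeff_zero, map_zero, map_zero] at h
      have : b₀ = 0 := hφ (by rw [h, map_zero])
      rw [this, sub_zero]; exact h0
    · intro x y hx hy b₀ hb₀ h
      obtain ⟨x₀, hx₀, hx₀'⟩ := K38.Nat.exists_lift 𝒜 ℬ φ hdeg (le_refl n)
        (a := GradedRing.proj 𝒜 n ((φ x).coeff n)) (by rw [GradedRing.proj_apply]; exact SetLike.coe_mem _)
      obtain ⟨y₀, hy₀, hy₀'⟩ := K38.Nat.exists_lift 𝒜 ℬ φ hdeg (le_refl n)
        (a := GradedRing.proj 𝒜 n ((φ y).coeff n)) (by rw [GradedRing.proj_apply]; exact SetLike.coe_mem _)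
      have e : b₀ = x₀ + y₀ := hφ (by
        rw [h, map_add φ x₀ y₀, hx₀', hy₀', map_add φ, Polynomial.coeff_add, map_add, map_add])
      have e2 : x + y - b₀ = (x - x₀) + (y - y₀) := by rw [e]; ring
      rw [e2]
      exact hadd _ _ (hx x₀ hx₀ hx₀') (hy y₀ hy₀ hy₀')
    · intro m hnm a ha b hb hba b₀ hb₀ h
      rw [hba, Polynomial.coeff_monomial, if_pos rfl, GradedRing.proj_apply] at h
      rcases Nat.eq_or_lt_of_le hnm with rfl | hlt
      · rw [DirectSum.decompose_of_mem_same _ ha] at h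
        have : b = b₀ := hφ (by rw [hba, h])
        rw [this, sub_self]; exact h0
      · rw [DirectSum.decompose_of_mem_ne _ ha (ne_of_gt hlt), map_zero] at h
        have : b₀ = 0 := hφ (by rw [h, map_zero])
        rw [this, sub_zero]
        exact hh m hlt a ha b hb hba
  have := key b hb 0 (Submodule.zero_mem _) (by rw [← hρ n b hb, hb0, map_zero, map_zero])
  rwa [sub_zero] at this

include hφ hdeg hker hρ in
/-- kernel of `ρ` in a fixed degree is nilpotent -/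
theorem isNilpotent_of_deg {n : ℕ} (b : B) (hb : b ∈ ℬ n) (hb0 : ρ (π b) = 0) : IsNilpotent (π b) := by
  refine induction_ker 𝒜 ℬ φ hφ hdeg 𝒞 π ρ hρ (fun b => IsNilpotent (π b)) ?_ ?_ ?_ b hb hb0
  · rw [map_zero]; exact IsNilpotent.zero
  · intro x y hx hy
    rw [map_add]
    exact (Commute.all _ _).isNilpotent_add hx hy
  · intro m hm a ha b hb hba
    refine ⟨n + 1, ?_⟩
    have hm0 : 0 < m := by omega
    obtain ⟨b₁, -, hb₁⟩ := K38.Nat.exists_lift 𝒜 ℬ φ hdeg (Nat.zero_le m) ha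
    have hpow : a ^ n ∈ 𝒜 (m * n) := by
      have := SetLike.pow_mem_graded (A := 𝒜) n ha
      rwa [smul_eq_mul, mul_comm] at this
    obtain ⟨b₂, -, hb₂⟩ := K38.Nat.exists_lift 𝒜 ℬ φ hdeg (n := n * (n + 1)) (by nlinarith) hpow
    have e : b ^ (n + 1) = b₁ * b₂ := hφ (by
      rw [map_pow, hba, map_mul φ, hb₁, hb₂, Polynomial.monomial_pow, Polynomial.monomial_mul_monomial, zero_add,
        pow_succ, mul_comm (a ^ n)])
    rw [← map_pow, e, map_mul π]
    have hb₁' : π b₁ = 0 := by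
      have : b₁ ∈ RingHom.ker π.toRingHom := by
        rw [hker]
        refine Ideal.subset_span ⟨a, HomogeneousIdeal.mem_irrelevant_of_mem _ hm0 ha, ?_⟩
        rw [hb₁]; rfl
      exact this
    rw [hb₁', zero_mul]

include hφ hdeg hker hρ hπ in
theorem isNilpotent_of_ker (c : C) (hc : ρ c = 0) : IsNilpotent c := by
  classical
  rw [← DirectSum.sum_support_decompose 𝒞 c]
  refine isNilpotent_sum fun i _ => ?_
  obtain ⟨b, hb, hbc⟩ := exists_lift_hom ℬ 𝒞 π hπ (n := i) (c := (DirectSum.decompose 𝒞 c i : C)) (SetLike.coe_mem _)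
  rw [← hbc]
  refine isNilpotent_of_deg 𝒜 ℬ φ hφ hdeg 𝒞 π hker ρ hρ b hb ?_
  rw [hbc, GradedRingHom.map_directSumDecompose, hc, DirectSum.decompose_zero]
  rfl

include hφ hdeg hker hρ hπ in
/-- in degrees `n ≥ n₀` with `S_{m+1} = S_1 S_m` for `m ≥ n₀` the map `ρ` is injective -/
theorem injective_of_eventually (n₀ : ℕ) (hgen : ∀ n : ℕ, n₀ ≤ n → 𝒜 (n + 1) = 𝒜 1 * 𝒜 n)
    (n : ℕ) (hn : n₀ ≤ n) (c : C) (hcn : c ∈ 𝒞 n) (hc : ρ c = 0) : c = 0 := by
  obtain ⟨b, hb, rfl⟩ := exists_lift_hom ℬ 𝒞 π hπ hcn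
  refine induction_ker 𝒜 ℬ φ hφ hdeg 𝒞 π ρ hρ (fun b => π b = 0) (map_zero _) ?_ ?_ b hb hc
  · intro x y hx hy
    rw [map_add, hx, hy, add_zero]
  · intro m hm a ha b hb hba
    obtain ⟨m, rfl⟩ : ∃ m', m = m' + 1 := ⟨m - 1, by omega⟩
    have hgm := hgen m (by omega)
    rw [hgm] at ha
    suffices h : ∀ b : B, φ b = Polynomial.monomial n a → π b = 0 from h b hba
    refine Submodule.mul_induction_on' (C := fun a _ => ∀ b : B, φ b = Polynomial.monomial n a → π b = 0)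
      ?_ ?_ ha
    · intro x hx y hy b hb
      obtain ⟨b₁, -, hb₁⟩ := K38.Nat.exists_lift 𝒜 ℬ φ hdeg (Nat.zero_le 1) hx
      obtain ⟨b₂, -, hb₂⟩ := K38.Nat.exists_lift 𝒜 ℬ φ hdeg (n := n) (by omega : n ≤ m) hy
      have e : b = b₁ * b₂ := hφ (by
        rw [hb, map_mul φ, hb₁, hb₂, Polynomial.monomial_mul_monomial, zero_add])
      have hb₁' : π b₁ = 0 := by
        have : b₁ ∈ RingHom.ker π.toRingHom := by
          rw [hker]
          refine Ideal.subset_span ⟨x, HomogeneousIdeal.mem_irrelevant_of_mem _ one_pos hx, ?_⟩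
          rw [hb₁]; rfl
        exact this
      rw [e, map_mul π, hb₁', zero_mul]
    · intro x hx y hy ihx ihy b hb
      rw [← hgm] at hx hy
      obtain ⟨b₁, -, hb₁⟩ := K38.Nat.exists_lift 𝒜 ℬ φ hdeg (n := n) (by omega : n ≤ m + 1) hx
      obtain ⟨b₂, -, hb₂⟩ := K38.Nat.exists_lift 𝒜 ℬ φ hdeg (n := n) (by omega : n ≤ m + 1) hy
      have e : b = b₁ + b₂ := hφ (by rw [hb, map_add φ, hb₁, hb₂, map_add])
      rw [e, map_add, ihx b₁ hb₁, ihy b₂ hb₂, add_zero]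

end K38.NatProj
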