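import Groth.Agent.S12139
import Groth.Agent.EGA2.K42.DomHom
import Groth.Agent.EGA2.K37.ConeProj2
import Groth.Agent.EGA2.K37.ConeImm

/-!
# The canonical retraction of the pointed projective cone
-/

set_option autoImplicit false
universe u
open CategoryTheory CategoryTheory.Limits AlgebraicGeometry Opposite TopologicalSpace
open HomogeneousLocalization K42.DomMap K42.DomQ K42.DomHom
open scoped HomogeneousIdeal

namespace K38.Retr

section ring

variable {A B σ τ : Type u} [CommRing A] [CommRing B] [SetLike σ A] [AddSubgroupClass σ A]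
  [SetLike τ B] [AddSubgroupClass τ B] {𝒜 : ℕ → σ} [GradedRing 𝒜] {ℬ : ℕ → τ} [GradedRing ℬ]

/-- `ev₀ : A[z] → A`, as a graded homomorphism. -/
noncomputable def evZero (ι : 𝒜 →+*ᵍ ℬ) {z : B} (hz : z ∈ ℬ 1)
    (hbij : Function.Bijective (Polynomial.eval₂RingHom (ι : A →+* B) z)) : ℬ →+*ᵍ 𝒜 :=
  { (Polynomial.evalRingHom (0 : A)).comp (RingEquiv.ofBijective _ hbij).symm.toRingHom with
    map_mem := by
      intro k x hx
      obtain ⟨a, ha, rfl⟩ := K37.PolyRing.exists_expansion ι hz hbij.2 hx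
      have e1 : ∀ a, (RingEquiv.ofBijective _ hbij).symm (ι a) = Polynomial.C a := fun a => by
        rw [RingEquiv.symm_apply_eq]
        simp
      have e2 : (RingEquiv.ofBijective _ hbij).symm z = Polynomial.X := by
        rw [RingEquiv.symm_apply_eq]
        simp
      change Polynomial.eval 0 ((RingEquiv.ofBijective _ hbij).symm (∑ j ∈ Finset.range (k + 1), ι (a j) * z ^ (k - j))) ∈ 𝒜 k
      rw [map_sum, Polynomial.eval_finsetSum]
      rw [Finset.sum_range_succ]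
      have h1 : ∑ j ∈ Finset.range k, Polynomial.eval 0 ((RingEquiv.ofBijective _ hbij).symm (ι (a j) * z ^ (k - j))) = 0 := by
        refine Finset.sum_eq_zero fun j hj => ?_
        rw [map_mul, map_pow, e1, e2]
        have : k - j ≠ 0 := by have := Finset.mem_range.mp hj; omega
        simp [this]
      rw [h1, zero_add, Nat.sub_self, pow_zero, mul_one, e1]
      simpa using ha k }

theorem evZero_ι (ι : 𝒜 →+*ᵍ ℬ) {z : B} (hz : z ∈ ℬ 1)
    (hbij : Function.Bijective (Polynomial.eval₂RingHom (ι : A →+* B) z)) (a : A) : evZero ι hz hbij (ι a) = a := by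
  have e1 : (RingEquiv.ofBijective _ hbij).symm (ι a) = Polynomial.C a := by
    rw [RingEquiv.symm_apply_eq]
    simp
  change Polynomial.eval 0 ((RingEquiv.ofBijective _ hbij).symm (ι a)) = a
  rw [e1, Polynomial.eval_C]

theorem awayMapTo_comp_map (ψ : 𝒜 →+*ᵍ ℬ) (θ : ℬ →+*ᵍ 𝒜) (h : ∀ a, θ (ψ a) = a) {d : ℕ} {f : A} (hf : f ∈ 𝒜 d) :
    (K37.ProjRing.awayMapTo θ (h f)).comp (Away.map ψ f) = RingHom.id _ := by
  ext q
  obtain ⟨n, x, hx, rfl⟩ := Away.mk_surjective 𝒜 hf q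
  rw [RingHom.comp_apply, Away.map_mk, K37.ProjRing.awayMapTo_mk θ (h f) (ψ.map_mem hf) hf n _ _]
  have e : Away.mk 𝒜 hf n (θ (ψ x)) (θ.map_mem (ψ.map_mem hx)) = Away.mk 𝒜 hf n x hx := by
    congr 1
    exact h x
  rw [e]
  rfl

/-- `Spec` of `𝒜_(f) → ℬ_(ψ f)` is surjective when `ψ` has a graded retraction. -/
theorem surjective_SpecMap (ψ : 𝒜 →+*ᵍ ℬ) (θ : ℬ →+*ᵍ 𝒜) (h : ∀ a, θ (ψ a) = a) {d : ℕ} {f : A} (hf : f ∈ 𝒜 d) :
    Surjective (Spec.map (CommRingCat.ofHom (Away.map ψ f))) := by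
  have h1 : Spec.map (CommRingCat.ofHom (K37.ProjRing.awayMapTo θ (h f))) ≫
      Spec.map (CommRingCat.ofHom (Away.map ψ f)) = 𝟙 _ := by
    rw [← Spec.map_comp, ← CommRingCat.ofHom_comp, awayMapTo_comp_map ψ θ h hf]
    exact Spec.map_id _
  have h2 : Surjective (Spec.map (CommRingCat.ofHom (K37.ProjRing.awayMapTo θ (h f))) ≫
      Spec.map (CommRingCat.ofHom (Away.map ψ f))) := by
    rw [h1]; infer_instance
  exact Surjective.of_comp (Spec.map (CommRingCat.ofHom (K37.ProjRing.awayMapTo θ (h f)))) _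

end ring

variable {Y PC P : Scheme.{u}} {𝒮 𝒮h : RelProj.QCGrAlg Y}
    {ι : 𝒮.toQCAlg ⟶ 𝒮h.toQCAlg} {z : 𝒮h.presheaf.obj (op ⊤)} (hz : RelCone.IsPolyOver 𝒮 𝒮h ι z)
    {pC : PC ⟶ Y}
    {chartC : ∀ (U : Y.Opens) (hU : IsAffineOpen U), (((pC ⁻¹ᵁ U : PC.Opens) : Scheme.{u}) ≅ Proj (𝒮h.deg U hU))}
    (hPC : RelProj.IsRelProj 𝒮h pC chartC)
    {p : P ⟶ Y}
    {chart : ∀ (U : Y.Opens) (hU : IsAffineOpen U), (((p ⁻¹ᵁ U : P.Opens) : Scheme.{u}) ≅ Proj (𝒮.deg U hU))}
    (hP : RelProj.IsRelProj 𝒮 p chart)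

/-- the associated `QGrHom` -/
noncomputable abbrev u : RelProj.QGrHom (𝟙 Y) 𝒮 𝒮h := RelProj.QGrHom.ofHom ι hz.graded

include hPC in
theorem pointedProjCone_eq_domQ :
    RelCone.pointedProjCone 𝒮 hz pC chartC = RelProj.domQ (u hz) pC chartC := by
  apply le_antisymm
  · refine iSup_le fun U => ?_
    rw [← domQ_inf_ofHom hz.graded hPC U.1 U.2]
    exact inf_le_left
  · intro x hx
    obtain ⟨U, hU, hxU, -⟩ := exists_isAffineOpen_mem_and_subset (x := pC.base x) (U := ⊤) trivial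
    have h : x ∈ RelProj.domQ (u hz) pC chartC ⊓ pC ⁻¹ᵁ U := ⟨hx, hxU⟩
    rw [domQ_inf_ofHom hz.graded hPC U hU] at h
    exact Opens.mem_iSup.mpr ⟨⟨U, hU⟩, h⟩

variable (chart) in
/-- The chart equations of the canonical retraction, on an open `W` of `Ĉ`. -/
def Q (W : PC.Opens) (r : (W : Scheme.{u}) ⟶ P) : Prop :=
  ∀ (U : Y.Opens) (hU : IsAffineOpen U) (d : ℕ) (hd : 0 < d) (f : 𝒮.presheaf.obj (op U)) (hf : f ∈ 𝒮.deg U hU d)
    (g : Spec (CommRingCat.of (HomogeneousLocalization.Away (𝒮h.deg U hU) ((RelProj.gradedHomAt ι hz.graded U hU) f))) ⟶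
      (W : Scheme.{u})),
    g ≫ W.ι =
        Proj.awayι (𝒮h.deg U hU) ((RelProj.gradedHomAt ι hz.graded U hU) f) ((RelProj.gradedHomAt ι hz.graded U hU).2 hf) hd ≫
          RelProj.emb pC chartC U hU →
      g ≫ r =
        Spec.map (CommRingCat.ofHom (HomogeneousLocalization.Away.map (RelProj.gradedHomAt ι hz.graded U hU) f)) ≫
          Proj.awayι (𝒮.deg U hU) f hf hd ≫ RelProj.emb p chart U hU

variable {r r' : ((RelProj.domQ (u hz) pC chartC : PC.Opens) : Scheme.{u}) ⟶ P}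

theorem q_of_on (hr : RelProj.IsProjQMapOn (u hz) p chart pC chartC (RelProj.domQ (u hz) pC chartC) r) :
    Q hz chart (chartC := chartC) _ r := by
  intro U hU d hd f hf g hg
  have key : ∀ ψ : 𝒮.deg U hU →+*ᵍ 𝒮h.deg U hU, (u hz).gradedAt U hU U hU le_rfl = ψ →
      ∀ (g : Spec (CommRingCat.of (Away (𝒮h.deg U hU) (ψ f))) ⟶
        ((RelProj.domQ (u hz) pC chartC : PC.Opens) : Scheme.{u})),
      g ≫ (RelProj.domQ (u hz) pC chartC).ι = Proj.awayι (𝒮h.deg U hU) (ψ f) (ψ.2 hf) hd ≫ RelProj.emb pC chartC U hU →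
      g ≫ r = Spec.map (CommRingCat.ofHom (Away.map ψ f)) ≫
          Proj.awayι (𝒮.deg U hU) f hf hd ≫ RelProj.emb p chart U hU := by
    rintro ψ rfl g hg
    have e : g = affOn (u hz) pC chartC U hU U hU le_rfl hd f hf := by
      rw [← cancel_mono (RelProj.domQ (u hz) pC chartC).ι, hg, affOn_ι]
      rfl
    rw [e]
    exact affOn_comp hr U hU U hU le_rfl hd f hf
  exact key _ (gradedAt_ofHom hz.graded U hU le_rfl) g hg

theorem exists_lift (U : Y.Opens) (hU : IsAffineOpen U) {d : ℕ} (hd : 0 < d) (f : 𝒮.presheaf.obj (op U))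
    (hf : f ∈ 𝒮.deg U hU d) :
    ∃ g : Spec (CommRingCat.of (Away (𝒮h.deg U hU) ((RelProj.gradedHomAt ι hz.graded U hU) f))) ⟶
        ((RelProj.domQ (u hz) pC chartC : PC.Opens) : Scheme.{u}),
      ∃ _ : IsOpenImmersion g, g.opensRange = (RelProj.domQ (u hz) pC chartC).ι ⁻¹ᵁ
        std pC chartC U hU ((RelProj.gradedHomAt ι hz.graded U hU) f) ∧
      g ≫ (RelProj.domQ (u hz) pC chartC).ι =
        Proj.awayι (𝒮h.deg U hU) ((RelProj.gradedHomAt ι hz.graded U hU) f) ((RelProj.gradedHomAt ι hz.graded U hU).2 hf) hd ≫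
          RelProj.emb pC chartC U hU := by
  have key : ∀ ψ : 𝒮.deg U hU →+*ᵍ 𝒮h.deg U hU, (u hz).gradedAt U hU U hU le_rfl = ψ →
      ∃ g : Spec (CommRingCat.of (Away (𝒮h.deg U hU) (ψ f))) ⟶
        ((RelProj.domQ (u hz) pC chartC : PC.Opens) : Scheme.{u}),
      ∃ _ : IsOpenImmersion g, g.opensRange = (RelProj.domQ (u hz) pC chartC).ι ⁻¹ᵁ std pC chartC U hU (ψ f) ∧
      g ≫ (RelProj.domQ (u hz) pC chartC).ι = Proj.awayι (𝒮h.deg U hU) (ψ f) (ψ.2 hf) hd ≫ RelProj.emb pC chartC U hU := by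
    rintro ψ rfl
    exact ⟨affOn (u hz) pC chartC U hU U hU le_rfl hd f hf, inferInstance,
      opensRange_affOn U hU U hU le_rfl hd f hf, affOn_ι U hU U hU le_rfl hd f hf⟩
  exact key _ (gradedAt_ofHom hz.graded U hU le_rfl)

include hPC in
theorem q_unique (hr : Q hz chart (chartC := chartC) _ r) (hr' : Q hz chart (chartC := chartC) _ r') : r = r' := by
  have hc : ∀ x : ((RelProj.domQ (u hz) pC chartC : PC.Opens) : Scheme.{u}),
      ∃ (Z : Scheme.{u}) (i : Z ⟶ ((RelProj.domQ (u hz) pC chartC : PC.Opens) : Scheme.{u})),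
        IsOpenImmersion i ∧ x ∈ Set.range i.base ∧ i ≫ r = i ≫ r' := by
    intro x
    obtain ⟨U, hU, hxU, -⟩ := exists_isAffineOpen_mem_and_subset (x := pC.base x.1) (U := ⊤) trivial
    obtain ⟨d, hd, f, hf, hx⟩ := exists_mem_std_of_mem_domQ (u hz) hPC U hU U hU le_rfl x.1 x.2 hxU
    rw [gradedAt_ofHom hz.graded U hU le_rfl] at hx
    obtain ⟨g, hg, hg1, hg2⟩ := exists_lift hz (pC := pC) (chartC := chartC) U hU hd f hf
    refine ⟨_, g, hg, ?_, ?_⟩
    · have : x ∈ g.opensRange := by rw [hg1]; exact hx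
      exact this
    · rw [hr U hU d hd f hf g hg2, hr' U hU d hd f hf g hg2]
  choose Z i hi hx hab using hc
  let 𝒱 : ((RelProj.domQ (u hz) pC chartC : PC.Opens) : Scheme.{u}).OpenCover :=
    { I₀ := ((RelProj.domQ (u hz) pC chartC : PC.Opens) : Scheme.{u})
      X := Z
      f := i
      mem₀ := by
        rw [Scheme.presieve₀_mem_precoverage_iff]
        exact ⟨fun x => ⟨x, hx x⟩, hi⟩ }
  exact 𝒱.hom_ext _ _ hab

include hPC hP in
theorem on_of_q (hr : Q hz chart (chartC := chartC) _ r) :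
    RelProj.IsProjQMapOn (u hz) p chart pC chartC (RelProj.domQ (u hz) pC chartC) r := by
  obtain ⟨⟨v, hv, -⟩, -⟩ := Groth.Agent.S12139.result (𝟙 Y) 𝒮 𝒮h (u hz) p chart hP pC chartC hPC
  rw [q_unique hz hPC hr (q_of_on hz hv)]
  exact hv

include hPC hP in
theorem existsUnique_q : ∃! r : ((RelProj.domQ (u hz) pC chartC : PC.Opens) : Scheme.{u}) ⟶ P,
    Q hz chart (chartC := chartC) _ r := by
  obtain ⟨⟨v, hv, -⟩, -⟩ := Groth.Agent.S12139.result (𝟙 Y) 𝒮 𝒮h (u hz) p chart hP pC chartC hPC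
  exact ⟨v, q_of_on hz hv, fun r hr => q_unique hz hPC hr (q_of_on hz hv)⟩

include hPC hP in
theorem isAffineHom_of_q (hr : Q hz chart (chartC := chartC) _ r) : IsAffineHom r :=
  of_forall_away (Q := @IsAffineHom) hz.graded hP hPC (on_of_q hz hPC hP hr) fun _ _ _ _ _ _ => inferInstance

include hPC hP in
theorem surjective_of_q (hr : Q hz chart (chartC := chartC) _ r) : Surjective r := by
  refine of_forall_away (Q := @Surjective) hz.graded hP hPC (on_of_q hz hPC hP hr) fun U hU d hd f hf => ?_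
  rw [gradedAt_ofHom hz.graded U hU le_rfl]
  exact surjective_SpecMap (RelProj.gradedHomAt ι hz.graded U hU)
    (evZero (RelProj.gradedHomAt ι hz.graded U hU) (hz.deg_z U hU) (hz.bij U hU))
    (evZero_ι (RelProj.gradedHomAt ι hz.graded U hU) (hz.deg_z U hU) (hz.bij U hU)) hf

include hPC hP in
theorem comp_p_of_q (hr : Q hz chart (chartC := chartC) _ r) :
    r ≫ p = (RelProj.domQ (u hz) pC chartC).ι ≫ pC := by
  have := comp_p (u hz) hP hPC (on_of_q hz hPC hP hr)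
  rwa [Category.comp_id] at this

section retract

variable {θ : 𝒮h.toQCAlg ⟶ 𝒮.toQCAlg} (hθ : RelProj.IsGradedHom θ) (hιθ : ι ≫ θ = 𝟙 _)
  (hirr : ∀ (U : Y.Opens) (hU : IsAffineOpen U), (𝒮.deg U hU)₊ ≤ ((𝒮h.deg U hU)₊).map (RelProj.gradedHomAt θ hθ U hU))
  {j : P ⟶ PC} (hj : RelProj.IsRelProjMap θ hθ hirr chartC chart j)

include hιθ in
theorem θι (U : Y.Opens) (hU : IsAffineOpen U) (a : 𝒮.presheaf.obj (op U)) :
    RelProj.gradedHomAt θ hθ U hU (RelProj.gradedHomAt ι hz.graded U hU a) = a := by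
  have h := congrArg (fun k : 𝒮.toQCAlg ⟶ 𝒮.toQCAlg => (k.hom.app (op U)).hom a) hιθ
  exact h

include hj hιθ in
theorem retract (hr : Q hz chart (chartC := chartC) _ r)
    (j' : P ⟶ ((RelProj.domQ (u hz) pC chartC : PC.Opens) : Scheme.{u}))
    (hj' : j' ≫ (RelProj.domQ (u hz) pC chartC).ι = j) : j' ≫ r = 𝟙 P := by
  have hc : ∀ x : P, ∃ (Z : Scheme.{u}) (i : Z ⟶ P),
        IsOpenImmersion i ∧ x ∈ Set.range i.base ∧ i ≫ (j' ≫ r) = i ≫ 𝟙 P := by
    intro x
    obtain ⟨U, hU, hxU, -⟩ := exists_isAffineOpen_mem_and_subset (x := p.base x) (U := ⊤) trivial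
    obtain ⟨d, hd, f, hf, hx⟩ := exists_mem_std p chart U hU x hxU
    obtain ⟨g, hg, hg1, hg2⟩ := exists_lift hz (pC := pC) (chartC := chartC) U hU hd f hf
    have h := θι hz hθ hιθ U hU
    refine ⟨_, aff p chart U hU hd f hf, inferInstance, ?_, ?_⟩
    · have : x ∈ (aff p chart U hU hd f hf).opensRange := by rw [opensRange_aff]; exact hx
      exact this
    · have e1 : aff p chart U hU hd f hf ≫ j' =
          Spec.map (CommRingCat.ofHom (K37.ProjRing.awayMapTo (RelProj.gradedHomAt θ hθ U hU) (h f))) ≫ g := by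
        rw [← cancel_mono (RelProj.domQ (u hz) pC chartC).ι, Category.assoc, Category.assoc, hg2, hj']
        have e2 := K37.ProjRing.awayι_comp_map' (RelProj.gradedHomAt θ hθ U hU) (hirr U hU) hd
          (s := (RelProj.gradedHomAt ι hz.graded U hU) f) ((RelProj.gradedHomAt ι hz.graded U hU).2 hf) (h f) hf
        rw [← reassoc_of% e2, ← K37.ProjBase.emb_comp hj]
        rfl
      rw [← Category.assoc, e1, Category.assoc, hr U hU d hd f hf g hg2, ← Category.assoc, ← Spec.map_comp,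
        ← CommRingCat.ofHom_comp,
        awayMapTo_comp_map (RelProj.gradedHomAt ι hz.graded U hU) (RelProj.gradedHomAt θ hθ U hU) h hf, Category.comp_id]
      have e3 : Spec.map (CommRingCat.ofHom (RingHom.id (Away (𝒮.deg U hU) f))) = 𝟙 _ := Spec.map_id _
      rw [e3, Category.id_comp]
      rfl
  choose Z i hi hx hab using hc
  let 𝒱 : P.OpenCover :=
    { I₀ := P
      X := Z
      f := i
      mem₀ := by
        rw [Scheme.presieve₀_mem_precoverage_iff]
        exact ⟨fun x => ⟨x, hx x⟩, hi⟩ }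
  exact 𝒱.hom_ext _ _ hab

end retract

include hPC hP in
/-- Everything about the canonical retraction, on an open `W = G(ι)`. -/
theorem main (W : PC.Opens) (hW : W = RelProj.domQ (u hz) pC chartC) :
    (∃! r : (W : Scheme.{u}) ⟶ P, Q hz chart (chartC := chartC) W r) ∧
    ∀ r : (W : Scheme.{u}) ⟶ P, Q hz chart (chartC := chartC) W r →
      IsAffineHom r ∧ Function.Surjective r.base ∧ r ≫ p = W.ι ≫ pC ∧
        ∀ (θ : 𝒮h.toQCAlg ⟶ 𝒮.toQCAlg) (hθ : RelProj.IsGradedHom θ), ι ≫ θ = 𝟙 _ →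
          ∀ (hirr : ∀ (U : Y.Opens) (hU : IsAffineOpen U),
              (𝒮.deg U hU)₊ ≤ ((𝒮h.deg U hU)₊).map (RelProj.gradedHomAt θ hθ U hU))
            (j : P ⟶ PC), RelProj.IsRelProjMap θ hθ hirr chartC chart j →
            ∀ j' : P ⟶ (W : Scheme.{u}), j' ≫ W.ι = j → j' ≫ r = 𝟙 P := by
  subst hW
  refine ⟨existsUnique_q hz hPC hP, fun r hr => ⟨isAffineHom_of_q hz hPC hP hr,
    (surjective_of_q hz hPC hP hr).surj, comp_p_of_q hz hPC hP hr, ?_⟩⟩
  intro θ hθ hιθ hirr j hj j' hj'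
  exact retract hz hθ hιθ hirr hj hr j' hj'

end K38.Retr
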