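import Groth.Agent.EGA2.K36.SymAlg
import Groth.Prelude.Def_RelSpec2
import Groth.Prelude.Def_RelProj2

/-!
# `Sym(E ⊕ O) = Sym(E)[z]`
-/

set_option autoImplicit false
universe u v w
open CategoryTheory CategoryTheory.Limits AlgebraicGeometry Opposite TopologicalSpace

namespace K38.SymSum

open Groth.Agent.CohqB.SymLoc K36.SymAlg

section ring

variable {R : Type u} {M : Type v} {N : Type v} {A B : Type w} [CommRing R] [AddCommGroup M] [Module R M]
  [AddCommGroup N] [Module R N] [CommRing A] [CommRing B]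
  (a : SymmetricAlgebra R M →+* A) (ha : Function.Bijective a)
  (ι : A →+* B) (z : B) (hz : Function.Bijective (Polynomial.eval₂RingHom ι z))
  (b : SymmetricAlgebra R N →+* B) (hb : ∀ r, b (algebraMap R _ r) = ι (a (algebraMap R _ r)))
  (inl : M →ₗ[R] N) (inr : R →ₗ[R] N)
  (hinl : ∀ m, b (SymmetricAlgebra.ι R N (inl m)) = ι (a (SymmetricAlgebra.ι R M m)))
  (hinr : b (SymmetricAlgebra.ι R N (inr 1)) = z)
  (htot : ∀ n, ∃ m r, inl m + inr r = n)

include ha hz hb hinl hinr htot in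
theorem bijective : Function.Bijective b := by
  let ea := RingEquiv.ofBijective a ha
  let ez := RingEquiv.ofBijective _ hz
  let g : SymmetricAlgebra R M →+* SymmetricAlgebra R N := symMap (RingHom.id R) inl.toAddMonoidHom
    (fun r m => inl.map_smul r m)
  let G : B →+* SymmetricAlgebra R N :=
    (Polynomial.eval₂RingHom (g.comp ea.symm.toRingHom) (SymmetricAlgebra.ι R N (inr 1))).comp ez.symm.toRingHom
  have hGι : ∀ x, G (ι (a x)) = g x := by
    intro x
    have e1 : ez.symm (ι (a x)) = Polynomial.C (a x) := by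
      rw [RingEquiv.symm_apply_eq]
      simp [ez]
    have e2 : ea.symm (a x) = x := ea.symm_apply_apply x
    change Polynomial.eval₂RingHom (g.comp ea.symm.toRingHom) (SymmetricAlgebra.ι R N (inr 1)) (ez.symm (ι (a x))) = g x
    rw [e1]
    simp [e2]
  have hGz : G z = SymmetricAlgebra.ι R N (inr 1) := by
    have e1 : ez.symm z = Polynomial.X := by
      rw [RingEquiv.symm_apply_eq]
      simp [ez]
    change Polynomial.eval₂RingHom (g.comp ea.symm.toRingHom) (SymmetricAlgebra.ι R N (inr 1)) (ez.symm z) = _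
    rw [e1]
    simp
  have hinr' : ∀ r, SymmetricAlgebra.ι R N (inr r) = algebraMap R _ r * SymmetricAlgebra.ι R N (inr 1) := by
    intro r
    rw [← Algebra.smul_def, ← map_smul, ← map_smul, smul_eq_mul, mul_one]
  have hGb : G.comp b = RingHom.id _ := by
    apply ringHom_ext
    · intro r
      rw [RingHom.comp_apply, hb, hGι, symMap_algebraMap]
      rfl
    · intro n
      obtain ⟨m, r, rfl⟩ := htot n
      rw [RingHom.comp_apply, map_add, map_add, map_add, hinl, hGι, symMap_ι, hinr', map_mul, map_mul, hb, hGι, hinr,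
        hGz, symMap_algebraMap]
      rfl
  refine ⟨fun x y hxy => ?_, fun y => ?_⟩
  · have h1 := congrArg (fun t => t x) hGb
    have h2 := congrArg (fun t => t y) hGb
    simp only [RingHom.comp_apply, RingHom.id_apply] at h1 h2
    rw [← h1, ← h2, hxy]
  · have hg : ∀ x, b (g x) = ι (a x) := by
      intro x
      have : b.comp g = ι.comp a := by
        apply ringHom_ext
        · intro r
          rw [RingHom.comp_apply, symMap_algebraMap, RingHom.comp_apply, RingHom.id_apply, hb]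
        · intro m
          rw [RingHom.comp_apply, symMap_ι, RingHom.comp_apply]
          exact hinl m
      exact congrArg (fun t => t x) this
    obtain ⟨p, rfl⟩ := hz.2 y
    have : p ∈ (RingHom.range b).comap (Polynomial.eval₂RingHom ι z) := by
      induction p using Polynomial.induction_on' with
      | add p q hp hq => exact add_mem hp hq
      | monomial n c =>
        obtain ⟨x, rfl⟩ := ha.2 c
        refine ⟨g x * (SymmetricAlgebra.ι R N (inr 1)) ^ n, ?_⟩
        rw [map_mul, map_pow, hg, hinr]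
        simp
    exact this

end ring

noncomputable section geo

variable {Y : Scheme.{u}} (E : Y.Modules)
    (𝒮 𝒮h : RelProj.QCGrAlg Y) (j : E ⟶ 𝒮.toModule)
    (ι : 𝒮.toQCAlg ⟶ 𝒮h.toQCAlg) (z : 𝒮h.presheaf.obj (op ⊤))
    (k : Coh.structureModule Y ⟶ 𝒮h.toModule)
    (hk : ∀ U : Y.Opens, (k.app U) (1 : Γ(Y, U)) = RelCone.restrictTop 𝒮h z U)

/-- the map `E ⊕ O ⟶ 𝒮[z]` -/
abbrev J : E ⊞ Coh.structureModule Y ⟶ 𝒮h.toModule :=
  biprod.desc (j ≫ RelSpec.QCAlg.Hom.toModuleMap ι) k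

/-- `E(U) → (E ⊕ O)(U)` -/
def inlU (U : Y.Opens) : Γ(E, U) →ₗ[Γ(Y, U)] Γ(E ⊞ Coh.structureModule Y, U) :=
  { toFun := fun m => (biprod.inl : E ⟶ E ⊞ Coh.structureModule Y).app U m
    map_add' := fun m m' => map_add _ m m'
    map_smul' := fun r m => Scheme.Modules.Hom.app_smul _ r m }

/-- `O(U) → (E ⊕ O)(U)` -/
def inrU (U : Y.Opens) : Γ(Y, U) →ₗ[Γ(Y, U)] Γ(E ⊞ Coh.structureModule Y, U) :=
  { toFun := fun m => (biprod.inr : Coh.structureModule Y ⟶ E ⊞ Coh.structureModule Y).app U m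
    map_add' := fun m m' => map_add ((biprod.inr : Coh.structureModule Y ⟶ E ⊞ Coh.structureModule Y).app U).hom m m'
    map_smul' := fun r m => Scheme.Modules.Hom.app_smul (biprod.inr : Coh.structureModule Y ⟶ E ⊞ Coh.structureModule Y) r m }

theorem J_inl (U : Y.Opens) (m : Γ(E, U)) :
    jApp _ 𝒮h.toQCAlg (J E 𝒮 𝒮h j ι k) U (inlU E U m) = (ι.hom.app (op U)).hom (jApp E 𝒮.toQCAlg j U m) := by
  have h := congrArg (fun t => (t.app U).hom m) (biprod.inl_desc (j ≫ RelSpec.QCAlg.Hom.toModuleMap ι) k)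
  exact h

include hk in
theorem J_inr (U : Y.Opens) :
    jApp _ 𝒮h.toQCAlg (J E 𝒮 𝒮h j ι k) U (inrU E U 1) = RelCone.restrictTop 𝒮h z U := by
  have h := congrArg (fun t => (t.app U).hom (1 : Γ(Y, U))) (biprod.inr_desc (j ≫ RelSpec.QCAlg.Hom.toModuleMap ι) k)
  exact h.trans (hk U)

theorem total (U : Y.Opens) (n : Γ(E ⊞ Coh.structureModule Y, U)) : ∃ m r, inlU E U m + inrU E U r = n := by
  refine ⟨(biprod.fst : E ⊞ Coh.structureModule Y ⟶ E).app U n,
    (biprod.snd : E ⊞ Coh.structureModule Y ⟶ Coh.structureModule Y).app U n, ?_⟩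
  have h := congrArg (fun t => (t.app U).hom n) (biprod.total (X := E) (Y := Coh.structureModule Y))
  exact h

include hk in
theorem main (hE : Coh.IsQCoh E) (hS : RelProj.IsGrSymAlg E 𝒮 j) (hz : RelCone.IsPolyOver 𝒮 𝒮h ι z) :
    RelProj.IsGrSymAlg (E ⊞ Coh.structureModule Y) 𝒮h (J E 𝒮 𝒮h j ι k) := by
  have hstr : ∀ (U : Y.Opens) (r : Γ(Y, U)), (ι.hom.app (op U)).hom ((𝒮.str.app (op U)).hom r) =
      (𝒮h.str.app (op U)).hom r := fun U r => congrArg (fun t => (t.app (op U)).hom r) ι.comm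
  refine ⟨isSymAlg_of_bijective fun U hU => ?_, fun U hU n => ?_⟩
  · refine bijective (symHom E 𝒮.toQCAlg j U) (bijective_symHom hE hS.1 U hU) (ι.hom.app (op U)).hom
      (RelCone.restrictTop 𝒮h z U) (hz.bij U hU) (symHom _ 𝒮h.toQCAlg (J E 𝒮 𝒮h j ι k) U) ?_ (inlU E U) (inrU E U)
      ?_ ?_ (total E U)
    · intro r
      rw [symHom_algebraMap, symHom_algebraMap]
      exact (hstr U r).symm
    · intro m
      rw [symHom_ι, symHom_ι]
      exact J_inl E 𝒮 𝒮h j ι k U m
    · rw [symHom_ι]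
      exact J_inr E 𝒮 𝒮h j ι z k hk U
  · obtain ⟨m, r, rfl⟩ := total E U n
    change jApp _ 𝒮h.toQCAlg (J E 𝒮 𝒮h j ι k) U (inlU E U m + inrU E U r) ∈ _
    have h1 : inrU E U r = r • inrU E U 1 := by rw [← map_smul, smul_eq_mul, mul_one]
    rw [map_add, h1, jApp_smul, J_inl, J_inr E 𝒮 𝒮h j ι z k hk]
    refine add_mem (hz.graded U hU 1 _ (hS.2 U hU m)) ?_
    have h2 := SetLike.mul_mem_graded (A := 𝒮h.deg U hU) (𝒮h.str_mem U hU r) (hz.deg_z U hU)
    rwa [zero_add] at h2

end geo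

end K38.SymSum
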