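import Groth.Agent.EGA2.K37.PolyRing
import Groth.Agent.EGA2.K37.ProjRing
import Groth.Agent.EGA2.K41.LineRing

/-!
# Graded rings `R[T, z]`
-/

set_option autoImplicit false
universe u
open CategoryTheory AlgebraicGeometry HomogeneousLocalization
open scoped HomogeneousIdeal

namespace K38.TwoVar

section lift

variable {R A B C : Type*} [CommRing R] [CommRing A] [CommRing B] [CommRing C]
  {φ : R →+* A} {T : A} {ι : A →+* B} {z : B}
  (hT : Function.Bijective (Polynomial.eval₂RingHom φ T)) (hz : Function.Bijective (Polynomial.eval₂RingHom ι z))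

include hT hz in
theorem hom_ext {f g : B →+* C} (h1 : ∀ r, f (ι (φ r)) = g (ι (φ r))) (h2 : f (ι T) = g (ι T)) (h3 : f z = g z) :
    f = g := by
  have e1 : f.comp ι = g.comp ι := by
    have : (f.comp ι).comp (Polynomial.eval₂RingHom φ T) = (g.comp ι).comp (Polynomial.eval₂RingHom φ T) := by
      apply Polynomial.ringHom_ext
      · intro r
        simpa using h1 r
      · simpa using h2
    refine RingHom.ext fun a => ?_
    obtain ⟨p, rfl⟩ := hT.2 a
    exact congrArg (fun t => t p) this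
  have e2 : f.comp (Polynomial.eval₂RingHom ι z) = g.comp (Polynomial.eval₂RingHom ι z) := by
    apply Polynomial.ringHom_ext
    · intro a
      simpa using congrArg (fun t => t a) e1
    · simpa using h3
  refine RingHom.ext fun b => ?_
  obtain ⟨p, rfl⟩ := hz.2 b
  exact congrArg (fun t => t p) e2

/-- The homomorphism `R[T, z] → C` with `T ↦ c`, `z ↦ d`. -/
noncomputable def lift (ψ : R →+* C) (c d : C) : B →+* C :=
  (Polynomial.eval₂RingHom ((Polynomial.eval₂RingHom ψ c).comp (RingEquiv.ofBijective _ hT).symm.toRingHom) d).comp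
    (RingEquiv.ofBijective _ hz).symm.toRingHom

theorem lift_ι (ψ : R →+* C) (c d : C) (a : A) :
    lift hT hz ψ c d (ι a) = Polynomial.eval₂RingHom ψ c ((RingEquiv.ofBijective _ hT).symm a) := by
  have e : (RingEquiv.ofBijective _ hz).symm (ι a) = Polynomial.C a := by
    rw [RingEquiv.symm_apply_eq]
    simp
  change Polynomial.eval₂RingHom _ d ((RingEquiv.ofBijective _ hz).symm (ι a)) = _
  rw [e]
  simp

@[simp] theorem lift_φ (ψ : R →+* C) (c d : C) (r : R) : lift hT hz ψ c d (ι (φ r)) = ψ r := by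
  rw [lift_ι]
  have e : (RingEquiv.ofBijective _ hT).symm (φ r) = Polynomial.C r := by
    rw [RingEquiv.symm_apply_eq]
    simp
  rw [e]
  simp

@[simp] theorem lift_T (ψ : R →+* C) (c d : C) : lift hT hz ψ c d (ι T) = c := by
  rw [lift_ι]
  have e : (RingEquiv.ofBijective _ hT).symm T = Polynomial.X := by
    rw [RingEquiv.symm_apply_eq]
    simp
  rw [e]
  simp

@[simp] theorem lift_z (ψ : R →+* C) (c d : C) : lift hT hz ψ c d z = d := by
  have e : (RingEquiv.ofBijective _ hz).symm z = Polynomial.X := by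
    rw [RingEquiv.symm_apply_eq]
    simp
  change Polynomial.eval₂RingHom _ d ((RingEquiv.ofBijective _ hz).symm z) = _
  rw [e]
  simp

end lift

section graded

variable {R A B C σ τ υ : Type u} [CommRing R] [CommRing A] [CommRing B] [CommRing C] [SetLike σ A] [AddSubgroupClass σ A]
  [SetLike τ B] [AddSubgroupClass τ B] [SetLike υ C] [AddSubgroupClass υ C]
  {𝒜 : ℕ → σ} [GradedRing 𝒜] {ℬ : ℕ → τ} [GradedRing ℬ] {𝒞 : ℕ → υ} [GradedRing 𝒞]
  {φ : R →+* A} {T : A} {ι : 𝒜 →+*ᵍ ℬ} {z : B}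
  (hT : Function.Bijective (Polynomial.eval₂RingHom φ T))
  (hz : Function.Bijective (Polynomial.eval₂RingHom (ι : A →+* B) z))
  (hTd : T ∈ 𝒜 1) (hφ : ∀ r, φ r ∈ 𝒜 0) (hzd : z ∈ ℬ 1)

include hT hz hTd hφ hzd in
theorem exists_expansion {k : ℕ} {x : B} (hx : x ∈ ℬ k) :
    ∃ a : ℕ → R, x = ∑ j ∈ Finset.range (k + 1), ι (φ (a j)) * ι T ^ j * z ^ (k - j) := by
  obtain ⟨a, ha, hxa⟩ := K37.PolyRing.exists_expansion ι hzd hz.2 hx
  have hl := K41.LineRing.IsLine.of_bijective hTd hφ hT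
  choose b hb using fun j => hl.surj j (a j) (ha j)
  refine ⟨b, ?_⟩
  rw [hxa]
  refine Finset.sum_congr rfl fun j _ => ?_
  rw [hb, map_mul, map_pow]

include hT hz hTd hφ hzd in
theorem map_eq_pow_mul (f g : B →+* C) (v : C) (h1 : ∀ r, f (ι (φ r)) = g (ι (φ r))) (h2 : f (ι T) = v * g (ι T))
    (h3 : f z = v * g z) {k : ℕ} {x : B} (hx : x ∈ ℬ k) : f x = v ^ k * g x := by
  obtain ⟨a, rfl⟩ := exists_expansion hT hz hTd hφ hzd hx
  rw [map_sum, map_sum, Finset.mul_sum]
  refine Finset.sum_congr rfl fun j hj => ?_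
  have hjk : k = j + (k - j) := by have := Finset.mem_range.mp hj; omega
  simp only [map_mul, map_pow]
  rw [h1, h2, h3, mul_pow, mul_pow]
  conv_rhs => rw [hjk, pow_add]
  have e : j + (k - j) - j = k - j := by omega
  rw [e]
  ring

include hTd hφ hzd in
theorem lift_mem (ψ : R →+* C) (hψ : ∀ r, ψ r ∈ 𝒞 0) {c d : C} (hc : c ∈ 𝒞 1) (hd : d ∈ 𝒞 1) {k : ℕ} {x : B}
    (hx : x ∈ ℬ k) : lift hT hz ψ c d x ∈ 𝒞 k := by
  obtain ⟨a, rfl⟩ := exists_expansion hT hz hTd hφ hzd hx
  rw [map_sum]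
  refine sum_mem fun j hj => ?_
  have hjk : 0 + j • 1 + (k - j) • 1 = k := by
    have := Finset.mem_range.mp hj
    simp only [smul_eq_mul, mul_one]
    omega
  rw [map_mul, map_mul, map_pow, map_pow]
  have e1 : lift hT hz ψ c d (ι (φ (a j))) = ψ (a j) := lift_φ hT hz ψ c d (a j)
  have e2 : lift hT hz ψ c d (ι T) = c := lift_T hT hz ψ c d
  rw [e1, e2, lift_z]
  have := SetLike.mul_mem_graded (A := 𝒞) (SetLike.mul_mem_graded (A := 𝒞) (hψ (a j)) (SetLike.pow_mem_graded j hc))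
    (SetLike.pow_mem_graded (k - j) hd)
  rwa [hjk] at this

/-- The graded homomorphism `R[T, z] → C`. -/
noncomputable def liftGr (ψ : R →+* C) (hψ : ∀ r, ψ r ∈ 𝒞 0) {c d : C} (hc : c ∈ 𝒞 1) (hd : d ∈ 𝒞 1) : ℬ →+*ᵍ 𝒞 :=
  { lift hT hz ψ c d with map_mem := fun hx => lift_mem hT hz hTd hφ hzd ψ hψ hc hd hx }

section away

omit [AddSubgroupClass σ A] [GradedRing 𝒜]

variable (ev : B →+* C) (hev : ev (ι T) = 1)

/-- `B_(T) → C`, `x / T^n ↦ ev x` when `ev T = 1`. -/
noncomputable def away1 : Away ℬ (ι T) →+* C :=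
  (Localization.awayLift ev (ι T) (by rw [hev]; exact isUnit_one)).comp (algebraMap (Away ℬ (ι T)) (Localization.Away (ι T)))

theorem away1_mk (hT1 : ι T ∈ ℬ 1) (n : ℕ) (x : B) (hx : x ∈ ℬ (n • 1)) :
    away1 ev hev (Away.mk ℬ hT1 n x hx) = ev x := by
  rw [away1, RingHom.comp_apply, HomogeneousLocalization.algebraMap_apply, Away.val_mk]
  have := Localization.awayLift_mk ev (ι T) x 1 (by rw [hev, mul_one]) n
  rw [this, one_pow, mul_one]

end away

include hTd hφ hzd in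
theorem away1_bijective {S' : Type u} [CommRing S'] (ψ : R →+* S') (t : S')
    (hb : Function.Bijective (Polynomial.eval₂RingHom ψ t)) :
    Function.Bijective (away1 (ℬ := ℬ) (lift hT hz ψ 1 t) (lift_T hT hz ψ 1 t)) := by
  have hT1 : ι T ∈ ℬ 1 := ι.map_mem hTd
  have e1 : ∀ r, lift hT hz ψ 1 t (ι (φ r)) = ψ r := lift_φ hT hz ψ 1 t
  have e2 : lift hT hz ψ 1 t (ι T) = 1 := lift_T hT hz ψ 1 t
  constructor
  · rw [injective_iff_map_eq_zero]
    intro q hq
    obtain ⟨n, x, hx, rfl⟩ := Away.mk_surjective ℬ hT1 q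
    rw [away1_mk] at hq
    have hx' : x ∈ ℬ n := by simpa using hx
    obtain ⟨a, rfl⟩ := exists_expansion hT hz hTd hφ hzd hx'
    rw [map_sum] at hq
    have h1 : Polynomial.eval₂RingHom ψ t (∑ j ∈ Finset.range (n + 1), Polynomial.monomial (n - j) (a j)) = 0 := by
      rw [map_sum, ← hq]
      refine Finset.sum_congr rfl fun j _ => ?_
      rw [map_mul, map_mul, map_pow, map_pow, e1, e2, lift_z, one_pow, mul_one, Polynomial.coe_eval₂RingHom,
        Polynomial.eval₂_monomial]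
    have h2 := hb.1 (h1.trans (map_zero _).symm)
    have h3 : ∀ j ∈ Finset.range (n + 1), a j = 0 := by
      intro j hj
      have h4 := congrArg (fun p => Polynomial.coeff p (n - j)) h2
      simp only [Polynomial.finsetSum_coeff, Polynomial.coeff_monomial, Polynomial.coeff_zero] at h4
      rw [Finset.sum_eq_single j] at h4
      · simpa using h4
      · intro i hi hij
        rw [if_neg]
        have := Finset.mem_range.mp hi
        have := Finset.mem_range.mp hj
        omega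
      · intro h; exact absurd hj h
    apply HomogeneousLocalization.val_injective
    rw [Away.val_mk, HomogeneousLocalization.val_zero]
    have h5 : ∑ j ∈ Finset.range (n + 1), ι (φ (a j)) * ι T ^ j * z ^ (n - j) = 0 := by
      refine Finset.sum_eq_zero fun j hj => ?_
      rw [h3 j hj, map_zero, map_zero, zero_mul, zero_mul]
    rw [h5, Localization.mk_zero]
  · intro y
    obtain ⟨p, rfl⟩ := hb.2 y
    induction p using Polynomial.induction_on' with
    | add p q hp hq =>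
      obtain ⟨x, hx⟩ := hp
      obtain ⟨y, hy⟩ := hq
      exact ⟨x + y, by rw [map_add, hx, hy, map_add]⟩
    | monomial n c =>
      have hm : ι (φ c) * z ^ n ∈ ℬ (n • 1) := by
        have := SetLike.mul_mem_graded (A := ℬ) (ι.map_mem (hφ c)) (SetLike.pow_mem_graded n hzd)
        rwa [zero_add] at this
      refine ⟨Away.mk ℬ hT1 n (ι (φ c) * z ^ n) hm, ?_⟩
      rw [away1_mk, map_mul, map_pow, e1, lift_z]
      simp

end graded

section projmap

variable {A B σ τ : Type u} [CommRing A] [CommRing B] [SetLike σ A] [AddSubgroupClass σ A]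
  [SetLike τ B] [AddSubgroupClass τ B] {𝒜 : ℕ → σ} [GradedRing 𝒜] {ℬ : ℕ → τ} [GradedRing ℬ]

theorem projMap_eq_aux (f g : 𝒜 →+*ᵍ ℬ) (hf : ℬ₊ ≤ (𝒜₊).map f) (hg : ℬ₊ ≤ (𝒜₊).map g) (v : B) (hv0 : v ∈ ℬ 0)
    (h : ∀ n, ∀ x ∈ 𝒜 n, f x = v ^ n * g x) {d : ℕ} (hd : 0 < d) {a : A} (ha : a ∈ 𝒜 d) :
    Proj.awayι ℬ (f a) (f.map_mem ha) hd ≫ Proj.map f hf = Proj.awayι ℬ (f a) (f.map_mem ha) hd ≫ Proj.map g hg := by
  have hvd : v ^ d ∈ ℬ 0 := by simpa using SetLike.pow_mem_graded d hv0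
  have hx : f a = g a * v ^ d := by rw [h d a ha, mul_comm]
  have e1 : Proj.awayι ℬ (f a) (f.map_mem ha) hd =
      Spec.map (CommRingCat.ofHom (awayMap ℬ hvd hx)) ≫ Proj.awayι ℬ (g a) (g.map_mem ha) hd :=
    (Proj.SpecMap_awayMap_awayι (𝒜 := ℬ) (g.map_mem ha) hd hvd hx).symm
  rw [Proj.awayι_comp_map f hf hd a ha, e1, Category.assoc, Proj.awayι_comp_map g hg hd a ha, ← Category.assoc,
    ← Spec.map_comp, ← CommRingCat.ofHom_comp]
  congr 3
  ext q
  obtain ⟨n, x, hxn, rfl⟩ := Away.mk_surjective 𝒜 ha q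
  rw [RingHom.comp_apply, Away.map_mk, Away.map_mk, HomogeneousLocalization.awayMap_mk]
  rw [Away.val_mk, Away.val_mk]
  congr 1
  rw [h _ x hxn, smul_eq_mul, mul_comm n d, pow_mul, mul_comm]

/-- Graded homomorphisms which differ by `v ^ n` in degree `n` induce the same morphism of `Proj`. -/
theorem projMap_eq (f g : 𝒜 →+*ᵍ ℬ) (hf : ℬ₊ ≤ (𝒜₊).map f) (hg : ℬ₊ ≤ (𝒜₊).map g) (v : B) (hv0 : v ∈ ℬ 0)
    (h : ∀ n, ∀ x ∈ 𝒜 n, f x = v ^ n * g x) : Proj.map f hf = Proj.map g hg :=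
  (Proj.mapAffineOpenCover f hf).openCover.hom_ext _ _ fun s => projMap_eq_aux f g hf hg v hv0 h s.1.2 s.2.2

end projmap

end K38.TwoVar
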